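import Mathlib
import Cfsg.Prelude.Def_TwoFusion
import Cfsg.Prelude.Def_SporadicB
import Cfsg.Agent.Lib.H58.TransferTwo

/-!
Centralizer of a 2-central involution equal to `⟨J⟩ × A_m`: reduction to `m = 4, 5`.
-/

set_option autoImplicit false
set_option linter.unusedSectionVars false
set_option linter.unusedVariables false
set_option linter.style.haveILetI false
open Cfsg

namespace H92.JA
open Subgroup
open scoped commutatorElement

/-! ### involutions of alternating groups -/

section alt
variable {m : ℕ}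

theorem swap_pair_mem (hm : 6 ≤ m) {y : alternatingGroup (Fin m)} (hy : (y : Equiv.Perm (Fin m)) * y = 1) {a b c d : Fin m}
    (hab : a ≠ b) (hac : a ≠ c) (had : a ≠ d) (hbc : b ≠ c) (hbd : b ≠ d) (hcd : c ≠ d)
    (ya : (y : Equiv.Perm (Fin m)) a = b) (yc : (y : Equiv.Perm (Fin m)) c = d) :
    ∃ h : Equiv.swap a b * Equiv.swap c d ∈ alternatingGroup (Fin m),
      (⟨Equiv.swap a b * Equiv.swap c d, h⟩ : alternatingGroup (Fin m)) ∈ ⁅centralizer ({y} : Set (alternatingGroup (Fin m))), centralizer ({y} : Set (alternatingGroup (Fin m)))⁆ := by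
  classical
  set Y : Equiv.Perm (Fin m) := (y : Equiv.Perm (Fin m)) with hYdef
  have hyy : ∀ z, Y (Y z) = z := fun z => by rw [← Equiv.Perm.mul_apply, hy]; rfl
  have yb : Y b = a := by rw [← ya, hyy]
  have yd : Y d = c := by rw [← yc, hyy]
  -- a pair of further points
  obtain ⟨e, he⟩ : ∃ e, e ∉ ({a, b, c, d} : Finset (Fin m)) := by
    by_contra hcon
    push Not at hcon
    have h1 : (Finset.univ : Finset (Fin m)) ⊆ {a, b, c, d} := fun x _ => hcon x
    have h2 := Finset.card_le_card h1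
    have h3 : ({a, b, c, d} : Finset (Fin m)).card ≤ 4 := Finset.card_le_four
    rw [Finset.card_univ, Fintype.card_fin] at h2
    omega
  have hefx : ∃ e f, e ≠ f ∧ e ∉ ({a, b, c, d} : Finset (Fin m)) ∧ f ∉ ({a, b, c, d} : Finset (Fin m)) ∧
      ((Y e = e ∧ Y f = f) ∨ (Y e = f ∧ Y f = e)) := by
    have hout : ∀ z, z ∉ ({a, b, c, d} : Finset (Fin m)) → Y z ∉ ({a, b, c, d} : Finset (Fin m)) := by
      intro z hz hz'
      simp only [Finset.mem_insert, Finset.mem_singleton, not_or] at hz hz'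
      rcases hz' with h | h | h | h
      · have := hyy z; rw [h, ya] at this; exact hz.2.1 this.symm
      · have := hyy z; rw [h, yb] at this; exact hz.1 this.symm
      · have := hyy z; rw [h, yc] at this; exact hz.2.2.2 this.symm
      · have := hyy z; rw [h, yd] at this; exact hz.2.2.1 this.symm
    by_cases h1 : Y e = e
    · obtain ⟨f, hf⟩ : ∃ f, f ∉ ({a, b, c, d, e} : Finset (Fin m)) := by
        by_contra hcon
        push Not at hcon
        have h1 : (Finset.univ : Finset (Fin m)) ⊆ {a, b, c, d, e} := fun x _ => hcon x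
        have h2 := Finset.card_le_card h1
        have h3 : ({a, b, c, d, e} : Finset (Fin m)).card ≤ 5 := Finset.card_le_five
        rw [Finset.card_univ, Fintype.card_fin] at h2
        omega
      have hf' : f ∉ ({a, b, c, d} : Finset (Fin m)) := by
        simp only [Finset.mem_insert, Finset.mem_singleton, not_or] at hf ⊢
        exact ⟨hf.1, hf.2.1, hf.2.2.1, hf.2.2.2.1⟩
      have hfe : e ≠ f := by
        simp only [Finset.mem_insert, Finset.mem_singleton, not_or] at hf
        exact fun h => hf.2.2.2.2 h.symm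
      by_cases h2 : Y f = f
      · exact ⟨e, f, hfe, he, hf', Or.inl ⟨h1, h2⟩⟩
      · exact ⟨f, Y f, fun h => h2 h.symm, hf', hout f hf', Or.inr ⟨rfl, hyy f⟩⟩
    · exact ⟨e, Y e, fun h => h1 h.symm, he, hout e he, Or.inr ⟨rfl, hyy e⟩⟩
  obtain ⟨e, f, hef, he, hf, hYef⟩ := hefx
  simp only [Finset.mem_insert, Finset.mem_singleton, not_or] at he hf
  obtain ⟨ea, eb, ec, ed⟩ := he
  obtain ⟨fa, fb, fc, fd⟩ := hf
  have sgn_swap : ∀ {u v : Fin m}, u ≠ v → Equiv.Perm.sign (Equiv.swap u v) = -1 := fun h => Equiv.Perm.sign_swap h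
  have mem2 : ∀ {u v u' v' : Fin m}, u ≠ v → u' ≠ v' → Equiv.swap u v * Equiv.swap u' v' ∈ alternatingGroup (Fin m) := by
    intro u v u' v' h h'
    rw [Equiv.Perm.mem_alternatingGroup, Equiv.Perm.sign_mul, sgn_swap h, sgn_swap h']; rfl
  have conj : ∀ (g : Equiv.Perm (Fin m)) (u v : Fin m), g * Equiv.swap u v * g⁻¹ = Equiv.swap (g u) (g v) :=
    fun g u v => (Equiv.swap_apply_apply g u v).symm
  obtain ⟨s, s_eq⟩ : ∃ s : alternatingGroup (Fin m), (s : Equiv.Perm (Fin m)) = Equiv.swap a b * Equiv.swap e f := ⟨⟨_, mem2 hab hef⟩, rfl⟩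
  obtain ⟨t, t_eq⟩ : ∃ t : alternatingGroup (Fin m), (t : Equiv.Perm (Fin m)) = Equiv.swap a c * Equiv.swap b d := ⟨⟨_, mem2 hac hbd⟩, rfl⟩
  have sab : ∀ z, z ≠ a → z ≠ b → Equiv.swap a b z = z := fun z h h' => Equiv.swap_apply_of_ne_of_ne h h'
  have conj2 : ∀ (g p q : Equiv.Perm (Fin m)), g * (p * q) * g⁻¹ = (g * p * g⁻¹) * (g * q * g⁻¹) := fun g p q => by group
  have hYs : Y * (Equiv.swap a b * Equiv.swap e f) * Y⁻¹ = Equiv.swap a b * Equiv.swap e f := by
    rw [conj2, conj, conj, ya, yb, Equiv.swap_comm b a]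
    rcases hYef with ⟨h1, h2⟩ | ⟨h1, h2⟩
    · rw [h1, h2]
    · rw [h1, h2, Equiv.swap_comm f e]
  have hYt : Y * (Equiv.swap a c * Equiv.swap b d) * Y⁻¹ = Equiv.swap a c * Equiv.swap b d := by
    rw [conj2, conj, conj, ya, yb, yc, yd]
    have hdis : Equiv.Perm.Disjoint (Equiv.swap a c) (Equiv.swap b d) := by
      rw [Equiv.Perm.disjoint_iff_disjoint_support, Equiv.Perm.support_swap hac, Equiv.Perm.support_swap hbd]
      simp [Finset.disjoint_left, hab, had, hbc.symm, hcd]
    exact hdis.commute.eq.symm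
  have hs : s ∈ centralizer ({y} : Set (alternatingGroup (Fin m))) := by
    rw [mem_centralizer_singleton_iff]
    apply Subtype.ext
    rw [Subgroup.coe_mul, Subgroup.coe_mul, s_eq]
    rw [mul_inv_eq_iff_eq_mul] at hYs
    exact hYs.symm
  have ht : t ∈ centralizer ({y} : Set (alternatingGroup (Fin m))) := by
    rw [mem_centralizer_singleton_iff]
    apply Subtype.ext
    rw [Subgroup.coe_mul, Subgroup.coe_mul, t_eq]
    rw [mul_inv_eq_iff_eq_mul] at hYt
    exact hYt.symm
  refine ⟨mem2 hab hcd, ?_⟩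
  have key : (⟨Equiv.swap a b * Equiv.swap c d, mem2 hab hcd⟩ : alternatingGroup (Fin m)) = ⁅s, t⁆ := by
    apply Subtype.ext
    have e0 : ((⁅s, t⁆ : alternatingGroup (Fin m)) : Equiv.Perm (Fin m)) = (s : Equiv.Perm (Fin m)) * ((t : Equiv.Perm (Fin m)) * s * (t : Equiv.Perm (Fin m))⁻¹)⁻¹ := by
      rw [commutatorElement_def, Subgroup.coe_mul, Subgroup.coe_mul, Subgroup.coe_mul, Subgroup.coe_inv, Subgroup.coe_inv]
      group
    have ta : (t : Equiv.Perm (Fin m)) a = c := by
      rw [t_eq, Equiv.Perm.mul_apply, Equiv.swap_apply_of_ne_of_ne hab had, Equiv.swap_apply_left]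
    have tb : (t : Equiv.Perm (Fin m)) b = d := by
      rw [t_eq, Equiv.Perm.mul_apply, Equiv.swap_apply_left, Equiv.swap_apply_of_ne_of_ne had.symm hcd.symm]
    have te : (t : Equiv.Perm (Fin m)) e = e := by
      rw [t_eq, Equiv.Perm.mul_apply, Equiv.swap_apply_of_ne_of_ne eb ed, Equiv.swap_apply_of_ne_of_ne ea ec]
    have tf : (t : Equiv.Perm (Fin m)) f = f := by
      rw [t_eq, Equiv.Perm.mul_apply, Equiv.swap_apply_of_ne_of_ne fb fd, Equiv.swap_apply_of_ne_of_ne fa fc]
    have e2 : (t : Equiv.Perm (Fin m)) * s * (t : Equiv.Perm (Fin m))⁻¹ = Equiv.swap c d * Equiv.swap e f := by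
      rw [s_eq, conj2, conj, conj, ta, tb, te, tf]
    rw [e0, e2, _root_.mul_inv_rev, Equiv.swap_inv, Equiv.swap_inv, s_eq, mul_assoc, ← mul_assoc (Equiv.swap e f), Equiv.swap_mul_self, one_mul]
  rw [key]
  exact commutator_mem_commutator hs ht

theorem mem_of_le (hm : 6 ≤ m) {y : alternatingGroup (Fin m)} (hy : (y : Equiv.Perm (Fin m)) * y = 1) : ∀ (n : ℕ) (w : Equiv.Perm (Fin m)),
    w.support.card ≤ n → (∀ a, w a = a ∨ w a = (y : Equiv.Perm (Fin m)) a) → ∀ (hw : w ∈ alternatingGroup (Fin m)),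
    (⟨w, hw⟩ : alternatingGroup (Fin m)) ∈ ⁅centralizer ({y} : Set (alternatingGroup (Fin m))), centralizer ({y} : Set (alternatingGroup (Fin m)))⁆ := by
  classical
  set Y : Equiv.Perm (Fin m) := (y : Equiv.Perm (Fin m)) with hYdef
  have hyy : ∀ z, Y (Y z) = z := fun z => by rw [← Equiv.Perm.mul_apply, hy]; rfl
  intro n
  induction n with
  | zero =>
    intro w hwn _ hw
    have h1 : w = 1 := by
      rw [← Equiv.Perm.support_eq_empty_iff, ← Finset.card_eq_zero]; omega
    have h2 : (⟨w, hw⟩ : alternatingGroup (Fin m)) = 1 := Subtype.ext h1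
    rw [h2]; exact one_mem _
  | succ n ih =>
    intro w hwn hwy hw
    by_cases h1 : w = 1
    · have h2 : (⟨w, hw⟩ : alternatingGroup (Fin m)) = 1 := Subtype.ext h1
      rw [h2]; exact one_mem _
    have hsym : ∀ {a}, w a ≠ a → w a = Y a ∧ w (Y a) = a ∧ Y a ≠ a := by
      intro a ha
      have e1 : w a = Y a := (hwy a).resolve_left ha
      have e2 : Y a ≠ a := by rw [← e1]; exact ha
      refine ⟨e1, ?_, e2⟩
      rcases hwy (Y a) with h | h
      · exfalso
        apply e2
        have : w (Y a) = w a := by rw [h, e1]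
        exact w.injective this
      · rw [h, hyy]
    obtain ⟨a, ha⟩ : ∃ a, w a ≠ a := by
      by_contra hcon
      push Not at hcon
      exact h1 (Equiv.ext hcon)
    obtain ⟨a1, a2, a3⟩ := hsym ha
    set b := Y a with hb
    set w1 := Equiv.swap a b * w with hw1
    have w1a : w1 a = a := by rw [hw1, Equiv.Perm.mul_apply, a1, Equiv.swap_apply_right]
    have w1b : w1 b = b := by rw [hw1, Equiv.Perm.mul_apply, a2, Equiv.swap_apply_left]
    have w1z : ∀ z, z ≠ a → z ≠ b → w1 z = w z := by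
      intro z hza hzb
      rw [hw1, Equiv.Perm.mul_apply]
      apply Equiv.swap_apply_of_ne_of_ne
      · intro h; apply hzb; rw [← a2] at h; exact w.injective h
      · intro h; apply hza; rw [← a1] at h; exact w.injective h
    have hs1 : Equiv.Perm.sign w1 = -1 := by
      rw [hw1, Equiv.Perm.sign_mul, Equiv.Perm.sign_swap (Ne.symm a3), Equiv.Perm.mem_alternatingGroup.1 hw, mul_one]
    have h2 : w1 ≠ 1 := by
      intro h
      rw [h, Equiv.Perm.sign_one] at hs1
      exact absurd hs1 (by decide)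
    obtain ⟨c, hc⟩ : ∃ c, w1 c ≠ c := by
      by_contra hcon
      push Not at hcon
      exact h2 (Equiv.ext hcon)
    have hca : c ≠ a := by rintro rfl; exact hc w1a
    have hcb : c ≠ b := by rintro rfl; exact hc w1b
    rw [w1z c hca hcb] at hc
    obtain ⟨c1, c2, c3⟩ := hsym hc
    set d := Y c with hd
    have hda : d ≠ a := by
      intro h
      apply hcb
      rw [hb, ← h, hd, hyy]
    have hdb : d ≠ b := by
      intro h
      apply hca
      have := congrArg Y h
      rwa [hd, hb, hyy, hyy] at this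
    set w2 := Equiv.swap c d * w1 with hw2
    have w2c : w2 c = c := by rw [hw2, Equiv.Perm.mul_apply, w1z c hca hcb, c1, Equiv.swap_apply_right]
    have w2d : w2 d = d := by rw [hw2, Equiv.Perm.mul_apply, w1z d hda hdb, c2, Equiv.swap_apply_left]
    have w2a : w2 a = a := by rw [hw2, Equiv.Perm.mul_apply, w1a, Equiv.swap_apply_of_ne_of_ne hca.symm hda.symm]
    have w2b : w2 b = b := by rw [hw2, Equiv.Perm.mul_apply, w1b, Equiv.swap_apply_of_ne_of_ne hcb.symm hdb.symm]
    have w2z : ∀ z, z ≠ a → z ≠ b → z ≠ c → z ≠ d → w2 z = w z := by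
      intro z hza hzb hzc hzd
      rw [hw2, Equiv.Perm.mul_apply, w1z z hza hzb]
      apply Equiv.swap_apply_of_ne_of_ne
      · intro h; apply hzd; rw [← c2] at h; exact w.injective h
      · intro h; apply hzc; rw [← c1] at h; exact w.injective h
    have hs2 : w2 ∈ alternatingGroup (Fin m) := by
      rw [Equiv.Perm.mem_alternatingGroup, hw2, Equiv.Perm.sign_mul, Equiv.Perm.sign_swap (Ne.symm c3), hs1]; rfl
    have hwy2 : ∀ z, w2 z = z ∨ w2 z = Y z := by
      intro z
      by_cases hza : z = a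
      · left; rw [hza, w2a]
      by_cases hzb : z = b
      · left; rw [hzb, w2b]
      by_cases hzc : z = c
      · left; rw [hzc, w2c]
      by_cases hzd : z = d
      · left; rw [hzd, w2d]
      rw [w2z z hza hzb hzc hzd]
      exact hwy z
    have hcard : w2.support.card ≤ n := by
      have hsub : w2.support ⊆ w.support.erase a := by
        intro z hz
        rw [Equiv.Perm.mem_support] at hz
        have hza : z ≠ a := by rintro rfl; exact hz w2a
        have hzb : z ≠ b := by rintro rfl; exact hz w2b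
        have hzc : z ≠ c := by rintro rfl; exact hz w2c
        have hzd : z ≠ d := by rintro rfl; exact hz w2d
        rw [w2z z hza hzb hzc hzd] at hz
        exact Finset.mem_erase.2 ⟨hza, Equiv.Perm.mem_support.2 hz⟩
      have h3 := Finset.card_le_card hsub
      have h4 : a ∈ w.support := Equiv.Perm.mem_support.2 ha
      rw [Finset.card_erase_of_mem h4] at h3
      omega
    have ih2 := ih w2 hcard hwy2 hs2
    obtain ⟨hu, hu'⟩ := swap_pair_mem hm hy (a := a) (b := b) (c := c) (d := d) (Ne.symm a3) hca.symm hda.symm hcb.symm hdb.symm (Ne.symm c3) rfl rfl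
    have e3 : (⟨w, hw⟩ : alternatingGroup (Fin m)) = ⟨Equiv.swap a b * Equiv.swap c d, hu⟩ * ⟨w2, hs2⟩ := by
      apply Subtype.ext
      show w = Equiv.swap a b * Equiv.swap c d * w2
      rw [hw2, mul_assoc, ← mul_assoc (Equiv.swap c d), Equiv.swap_mul_self, one_mul, hw1, ← mul_assoc, Equiv.swap_mul_self, one_mul]
    rw [e3]
    exact mul_mem hu' ih2

/-- an involution of `A_m`, `m ≥ 6`, lies in the derived group of its centralizer -/
theorem inv_mem_comm (hm : 6 ≤ m) (y : alternatingGroup (Fin m)) (hy : y * y = 1) :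
    y ∈ ⁅centralizer ({y} : Set (alternatingGroup (Fin m))), centralizer ({y} : Set (alternatingGroup (Fin m)))⁆ := by
  have h1 : (y : Equiv.Perm (Fin m)) * y = 1 := congrArg Subtype.val hy
  exact mem_of_le hm h1 _ (y : Equiv.Perm (Fin m)) le_rfl (fun a => Or.inr rfl) y.2

end alt

end H92.JA
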