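import Mathlib
import Cfsg.Prelude.Def_TwoFusion
import Cfsg.Prelude.Def_SporadicB
import Cfsg.Agent.Lib.H92.JA1
import Cfsg.Agent.Lib.H58.TransferTwo

/-!
Centralizer of a 2-central involution equal to `⟨J⟩ × A_m`: `m = 4` or `5`, all involutions are conjugate.
-/

set_option autoImplicit false
set_option linter.unusedSectionVars false
set_option linter.unusedVariables false
set_option linter.style.haveILetI false
open Cfsg

namespace H92.JA
open Subgroup
open scoped commutatorElement

variable {G : Type*} [Group G]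

structure Ctx (J : G) (T : Subgroup G) : Prop where
  ord : orderOf J = 2
  JT : J ∉ T
  comm : ∀ x ∈ T, x * J = J * x
  cent : ∀ c, c * J = J * c → c ∈ T ∨ c * J ∈ T

theorem Ctx.sq {J : G} {T : Subgroup G} (X : Ctx J T) : J * J = 1 := by
  have := pow_orderOf_eq_one J
  rwa [X.ord, pow_two] at this

theorem Ctx.ne {J : G} {T : Subgroup G} (X : Ctx J T) : J ≠ 1 := by
  intro h
  have := X.ord
  rw [h, orderOf_one] at this
  omega

theorem Ctx.inv {J : G} {T : Subgroup G} (X : Ctx J T) : J⁻¹ = J := inv_eq_of_mul_eq_one_right X.sq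

theorem ctx_of {J : G} {T : Subgroup G} (hJ : orderOf J = 2)
    (hd : Cfsg.IsInternalDirectProduct (Subgroup.zpowers J) T (Subgroup.centralizer ({J} : Set G))) : Ctx J T := by
  obtain ⟨h1, h2, h3, h4, h5⟩ := hd
  have hsq : J * J = 1 := by
    have := pow_orderOf_eq_one J
    rwa [hJ, pow_two] at this
  have hne : J ≠ 1 := by
    intro h
    rw [h, orderOf_one] at hJ
    omega
  have hinv : J⁻¹ = J := inv_eq_of_mul_eq_one_right hsq
  have hcomm : ∀ x ∈ T, x * J = J * x := fun x hx => (h3 J (mem_zpowers J) x hx).symm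
  refine ⟨hJ, ?_, hcomm, ?_⟩
  · intro h
    have : J ∈ zpowers J ⊓ T := ⟨mem_zpowers J, h⟩
    rw [h4, mem_bot] at this
    exact hne this
  · intro c hc
    have hcC : c ∈ zpowers J ⊔ T := by
      rw [h5, mem_centralizer_singleton_iff]; exact hc
    let K : Subgroup G :=
      { carrier := {c | c * J = J * c ∧ (c ∈ T ∨ c * J ∈ T)}
        mul_mem' := by
          rintro a b ⟨ha, ha'⟩ ⟨hb, hb'⟩
          refine ⟨by rw [mul_assoc, hb, ← mul_assoc, ha, mul_assoc], ?_⟩
          rcases ha' with ha' | ha' <;> rcases hb' with hb' | hb'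
          · exact Or.inl (T.mul_mem ha' hb')
          · right; rw [mul_assoc]; exact T.mul_mem ha' hb'
          · right
            have : a * b * J = a * J * b := by rw [mul_assoc, hb, ← mul_assoc]
            rw [this]; exact T.mul_mem ha' hb'
          · left
            have : a * b = (a * J) * (b * J) := by
              calc a * b = a * (J * J) * b := by rw [hsq, mul_one]
                _ = a * J * (J * b) := by group
                _ = _ := by rw [hb]
            rw [this]; exact T.mul_mem ha' hb'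
        one_mem' := ⟨by rw [one_mul, mul_one], Or.inl T.one_mem⟩
        inv_mem' := by
          rintro a ⟨ha, ha'⟩
          have haJ : a⁻¹ * J = J * a⁻¹ := by
            have : Commute a J := ha
            exact this.inv_left.eq
          refine ⟨haJ, ?_⟩
          rcases ha' with ha' | ha'
          · exact Or.inl (T.inv_mem ha')
          · right
            have := T.inv_mem ha'
            rw [_root_.mul_inv_rev, hinv] at this
            rw [haJ]; exact this }
    have h6 : zpowers J ⊔ T ≤ K := by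
      apply sup_le
      · rw [zpowers_le]
        exact ⟨rfl, Or.inr (by rw [hsq]; exact T.one_mem)⟩
      · intro x hx
        exact ⟨hcomm x hx, Or.inl hx⟩
    exact (h6 hcC).2

/-- the transfer argument -/
theorem fuse [Finite G] {J : G} {T : Subgroup G} (X : Ctx J T) (h2 : ∀ N : Subgroup G, N.Normal → N.index ≠ 2) (P : Sylow 2 G)
    (hJP : J ∈ (P : Subgroup G)) (hPJ : ∀ x ∈ (P : Subgroup G), x * J = J * x) : ∃ g : G, g * J * g⁻¹ ∈ T := by
  by_contra hcon
  push Not at hcon
  have hM : T.relIndex (P : Subgroup G) = 2 := by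
    show (T.subgroupOf (P : Subgroup G)).index = 2
    rw [index_eq_two_iff]
    refine ⟨⟨J, hJP⟩, fun b => ?_⟩
    rw [mem_subgroupOf, mem_subgroupOf]
    show Xor ((b : G) * J ∈ T) ((b : G) ∈ T)
    have hb := hPJ b b.2
    rcases X.cent b hb with h | h
    · right
      refine ⟨h, fun h' => X.JT ?_⟩
      have := T.mul_mem (T.inv_mem h) h'
      rwa [inv_mul_cancel_left] at this
    · left
      refine ⟨h, fun h' => X.JT ?_⟩
      have := T.mul_mem (T.inv_mem h') h
      rwa [inv_mul_cancel_left] at this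
  obtain ⟨H, hH, hH2⟩ := H58.TransferTwo.exists_index_two P T hM J hJP (by
    intro r hr g _
    obtain ⟨k, rfl⟩ := hr
    rw [pow_mul, pow_two, X.sq, one_pow, mul_one, inv_mul_cancel]
    exact T.one_mem) hcon
  exact h2 H hH hH2

theorem not_six {J : G} {T : Subgroup G} (X : Ctx J T) {m : ℕ} (hm : 6 ≤ m) (e : ↥T ≃* ↥(alternatingGroup (Fin m)))
    {g : G} (hg : g * J * g⁻¹ ∈ T) : False := by
  set x := g * J * g⁻¹ with hx
  have hxx : x * x = 1 := by
    rw [hx]
    calc g * J * g⁻¹ * (g * J * g⁻¹) = g * (J * J) * g⁻¹ := by group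
      _ = 1 := by rw [X.sq]; group
  -- x lies in the derived group of its centralizer
  have h1 := inv_mem_comm hm (e ⟨x, hg⟩) (by
    rw [← map_mul]
    have : (⟨x, hg⟩ : ↥T) * ⟨x, hg⟩ = 1 := Subtype.ext hxx
    rw [this, map_one])
  have h2 : x ∈ ⁅centralizer ({x} : Set G), centralizer ({x} : Set G)⁆ := by
    have h3 : (⁅centralizer ({e ⟨x, hg⟩} : Set (alternatingGroup (Fin m))), centralizer ({e ⟨x, hg⟩} : Set (alternatingGroup (Fin m)))⁆).map
        (T.subtype.comp e.symm.toMonoidHom) ≤ ⁅centralizer ({x} : Set G), centralizer ({x} : Set G)⁆ := by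
      rw [map_commutator]
      have h4 : (centralizer ({e ⟨x, hg⟩} : Set (alternatingGroup (Fin m)))).map (T.subtype.comp e.symm.toMonoidHom) ≤ centralizer ({x} : Set G) := by
        rintro _ ⟨c, hc, rfl⟩
        rw [SetLike.mem_coe, mem_centralizer_singleton_iff] at hc
        rw [mem_centralizer_singleton_iff]
        have h5 := congrArg e.symm hc
        rw [map_mul, map_mul, e.symm_apply_apply] at h5
        exact congrArg Subtype.val h5
      exact commutator_mono h4 h4
    have h4 := h3 ⟨_, h1, rfl⟩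
    have h5 : (T.subtype.comp e.symm.toMonoidHom) (e ⟨x, hg⟩) = x := by
      show ((e.symm (e ⟨x, hg⟩) : ↥T) : G) = x
      rw [e.symm_apply_apply]
    rwa [h5] at h4
  have h3 : J ∈ ⁅centralizer ({J} : Set G), centralizer ({J} : Set G)⁆ := by
    have h4 : (⁅centralizer ({x} : Set G), centralizer ({x} : Set G)⁆).map (MulAut.conj g⁻¹).toMonoidHom ≤
        ⁅centralizer ({J} : Set G), centralizer ({J} : Set G)⁆ := by
      rw [map_commutator]
      have h5 : (centralizer ({x} : Set G)).map (MulAut.conj g⁻¹).toMonoidHom ≤ centralizer ({J} : Set G) := by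
        rintro _ ⟨c, hc, rfl⟩
        rw [SetLike.mem_coe, mem_centralizer_singleton_iff] at hc
        rw [mem_centralizer_singleton_iff]
        show g⁻¹ * c * g⁻¹⁻¹ * J = J * (g⁻¹ * c * g⁻¹⁻¹)
        have e1 : g⁻¹ * c * g⁻¹⁻¹ * J = g⁻¹ * (c * x) * g := by rw [hx]; group
        have e2 : J * (g⁻¹ * c * g⁻¹⁻¹) = g⁻¹ * (x * c) * g := by rw [hx]; group
        rw [e1, e2, hc]
      exact commutator_mono h5 h5
    have h5 := h4 ⟨x, h2, rfl⟩
    have h6 : (MulAut.conj g⁻¹).toMonoidHom x = J := by
      show g⁻¹ * x * g⁻¹⁻¹ = J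
      rw [hx]; group
    rwa [h6] at h5
  have h4 : ⁅centralizer ({J} : Set G), centralizer ({J} : Set G)⁆ ≤ T := by
    rw [commutator_le]
    intro c hc d hd
    rw [mem_centralizer_singleton_iff] at hc hd
    have key : ∀ c d : G, c * J = J * c → d * J = J * d → c ∈ T → (d ∈ T ∨ d * J ∈ T) → ⁅c, d⁆ ∈ T := by
      intro c d hc hd hcT hdT
      rcases hdT with hdT | hdT
      · rw [commutatorElement_def]
        exact T.mul_mem (T.mul_mem (T.mul_mem hcT hdT) (T.inv_mem hcT)) (T.inv_mem hdT)
      · have : ⁅c, d⁆ = ⁅c, d * J⁆ := by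
          rw [commutatorElement_def, commutatorElement_def, _root_.mul_inv_rev, X.inv]
          have hci : J * c⁻¹ = c⁻¹ * J := ((show Commute c J from hc).inv_left.eq).symm
          calc c * d * c⁻¹ * d⁻¹ = c * d * c⁻¹ * (J * J) * d⁻¹ := by rw [X.sq, mul_one]
            _ = c * d * (c⁻¹ * J) * J * d⁻¹ := by group
            _ = c * (d * J) * c⁻¹ * (J * d⁻¹) := by rw [← hci]; group
        rw [this, commutatorElement_def]
        exact T.mul_mem (T.mul_mem (T.mul_mem hcT hdT) (T.inv_mem hcT)) (T.inv_mem hdT)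
    rcases X.cent c hc with hcT | hcT
    · exact key c d hc hd hcT (X.cent d hd)
    · have hcJ : (c * J) * J = J * (c * J) := by rw [hc, mul_assoc, hc]
      have : ⁅c, d⁆ = ⁅c * J, d⁆ := by
        rw [commutatorElement_def, commutatorElement_def, _root_.mul_inv_rev, X.inv]
        calc c * d * c⁻¹ * d⁻¹ = c * d * (J * J) * c⁻¹ * d⁻¹ := by rw [X.sq, mul_one]
          _ = c * (d * J) * J * c⁻¹ * d⁻¹ := by group
          _ = c * J * d * (J * c⁻¹) * d⁻¹ := by rw [hd]; group
      rw [this]
      exact key (c * J) d hcJ hd hcT (X.cent d hd)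
  exact X.JT (h4 h3)

theorem not_three {T : Subgroup G} [Finite G] {m : ℕ} (hm : m ≤ 3) (e : ↥T ≃* ↥(alternatingGroup (Fin m))) {x : G} (hx : x ∈ T) (h2 : orderOf x = 2) : False := by
  have h1 : orderOf (e ⟨x, hx⟩) = 2 := by
    rw [MulEquiv.orderOf_eq, Subgroup.orderOf_mk, h2]
  have h3 : 2 ∣ Nat.card (alternatingGroup (Fin m)) := by rw [← h1]; exact orderOf_dvd_natCard _
  rw [Nat.card_eq_fintype_card] at h3
  revert h3
  clear h1
  interval_cases m <;> decide

end H92.JA
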