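import Mathlib
import Cfsg.Prelude.Def_TwoFusion
import Cfsg.Prelude.Def_SporadicB
import Cfsg.Agent.Lib.H92.JA2

/-!
Centralizer of a 2-central involution equal to `⟨J⟩ × A_m`, `m = 4` or `5`: the Sylow 2-subgroup.
-/

set_option autoImplicit false
set_option linter.unusedSectionVars false
set_option linter.unusedVariables false
set_option linter.style.haveILetI false
open Cfsg

namespace H92.JA
open Subgroup

variable {G : Type*} [Group G]

/-- orbits under conjugation -/
theorem card_orbit [Finite G] (H : Subgroup G) (S : Set G) (x : G) (h1 : ∀ h ∈ H, h * x * h⁻¹ ∈ S)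
    (h2 : ∀ y ∈ S, ∃ h ∈ H, h * x * h⁻¹ = y) :
    Nat.card H = S.ncard * Nat.card ↥(H ⊓ Subgroup.centralizer {x}) := by
  letI act : MulAction ↥H G := MulAction.compHom G ((MulAut.conj : G →* MulAut G).comp H.subtype)
  have hact : ∀ (h : ↥H) (y : G), h • y = (h : G) * y * (h : G)⁻¹ := fun h y => rfl
  have horb : MulAction.orbit ↥H x = S := by
    ext y
    constructor
    · rintro ⟨h, rfl⟩
      exact h1 _ h.2
    · intro hy
      obtain ⟨h, hh, he⟩ := h2 y hy
      exact ⟨⟨h, hh⟩, he⟩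
  have h3 := MulAction.index_stabilizer ↥H x
  rw [horb] at h3
  have h4 := Subgroup.card_mul_index (MulAction.stabilizer ↥H x)
  have h5 : MulAction.stabilizer ↥H x = (Subgroup.centralizer {x}).subgroupOf H := by
    ext h
    rw [MulAction.mem_stabilizer_iff, hact, Subgroup.mem_subgroupOf, Subgroup.mem_centralizer_singleton_iff, mul_inv_eq_iff_eq_mul]
  rw [← h4, h3, h5, mul_comm]
  congr 1
  rw [← Subgroup.inf_subgroupOf_left, Nat.card_congr (Subgroup.subgroupOfEquivOfLe inf_le_left).toEquiv]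

/-- abstract data of the alternating factor -/
structure Alt (T : Subgroup G) (k : ℕ) : Prop where
  card : Nat.card T = 4 * k
  odd : k % 2 = 1
  sq : ∀ x ∈ T, x ^ 8 = 1 → x * x = 1
  conj : ∀ x ∈ T, ∀ y ∈ T, orderOf x = 2 → orderOf y = 2 → ∃ t ∈ T, t * x * t⁻¹ = y

theorem alt_of {A : Type*} [Group A] {T : Subgroup G} {k : ℕ} (e : ↥T ≃* A) (hc : Nat.card A = 4 * k) (ho : k % 2 = 1)
    (hs : ∀ x : A, x ^ 8 = 1 → x * x = 1) (hj : ∀ x y : A, orderOf x = 2 → orderOf y = 2 → ∃ t : A, t * x * t⁻¹ = y) : Alt T k := by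
  refine ⟨by rw [Nat.card_congr e.toEquiv, hc], ho, ?_, ?_⟩
  · intro x hx h8
    have h1 : (e ⟨x, hx⟩) ^ 8 = 1 := by
      rw [← map_pow]
      have : (⟨x, hx⟩ : ↥T) ^ 8 = 1 := Subtype.ext h8
      rw [this, map_one]
    have h2 := hs _ h1
    rw [← map_mul, map_eq_one_iff e e.injective] at h2
    exact congrArg Subtype.val h2
  · intro x hx y hy hx2 hy2
    obtain ⟨t, ht⟩ := hj (e ⟨x, hx⟩) (e ⟨y, hy⟩) (by rw [MulEquiv.orderOf_eq, Subgroup.orderOf_mk, hx2]) (by rw [MulEquiv.orderOf_eq, Subgroup.orderOf_mk, hy2])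
    refine ⟨e.symm t, (e.symm t).2, ?_⟩
    have h1 := congrArg e.symm ht
    rw [map_mul, map_mul, map_inv, e.symm_apply_apply, e.symm_apply_apply] at h1
    exact congrArg Subtype.val h1

theorem card_cent [Finite G] {J : G} {T : Subgroup G} (X : Ctx J T) : Nat.card (centralizer ({J} : Set G)) = 2 * Nat.card T := by
  have hTC : T ≤ centralizer ({J} : Set G) := fun x hx => mem_centralizer_singleton_iff.2 (X.comm x hx)
  have h1 : (T.subgroupOf (centralizer ({J} : Set G))).index = 2 := by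
    rw [index_eq_two_iff]
    refine ⟨⟨J, mem_centralizer_singleton_iff.2 rfl⟩, fun b => ?_⟩
    rw [mem_subgroupOf, mem_subgroupOf]
    show Xor ((b : G) * J ∈ T) ((b : G) ∈ T)
    have hb := mem_centralizer_singleton_iff.1 b.2
    rcases X.cent b hb with h | h
    · right
      refine ⟨h, fun h' => X.JT ?_⟩
      have := T.mul_mem (T.inv_mem h) h'
      rwa [inv_mul_cancel_left] at this
    · left
      refine ⟨h, fun h' => X.JT ?_⟩
      have := T.mul_mem (T.inv_mem h') h
      rwa [inv_mul_cancel_left] at this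
  have h2 := card_mul_index (T.subgroupOf (centralizer ({J} : Set G)))
  rw [h1, Nat.card_congr (subgroupOfEquivOfLe hTC).toEquiv] at h2
  omega

/-- everything about the Sylow 2-subgroup -/
structure Syl (J : G) (T : Subgroup G) (P : Sylow 2 G) (k : ℕ) : Prop where
  X : Ctx J T
  A : Alt T k
  JP : J ∈ (P : Subgroup G)
  PJ : ∀ x ∈ (P : Subgroup G), x * J = J * x
  fus : ∃ g : G, g * J * g⁻¹ ∈ T

section
variable [Finite G] {J : G} {T : Subgroup G} {P : Sylow 2 G} {k : ℕ} (H : Syl J T P k)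
include H

theorem Syl.le : (P : Subgroup G) ≤ centralizer ({J} : Set G) := fun x hx => mem_centralizer_singleton_iff.2 (H.PJ x hx)

theorem Syl.card : Nat.card P = 8 := by
  haveI : Fact (Nat.Prime 2) := ⟨Nat.prime_two⟩
  have h1 := card_cent H.X
  rw [H.A.card] at h1
  have h2 : 2 ^ 3 ∣ Nat.card (P : Subgroup G) := by
    apply P.pow_dvd_card_of_pow_dvd_card
    refine dvd_trans ?_ (card_subgroup_dvd_card (centralizer ({J} : Set G)))
    rw [h1]; exact ⟨k, by ring⟩
  have h3 : Nat.card (P : Subgroup G) ∣ Nat.card (centralizer ({J} : Set G)) := card_dvd_of_le H.le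
  obtain ⟨n, hn⟩ := P.isPGroup'.exists_card_eq
  have h4 : Nat.card (P : Subgroup G) = 2 ^ n := hn
  show Nat.card (P : Subgroup G) = 8
  rw [h4] at h2 h3 ⊢
  have h5 : 3 ≤ n := (Nat.pow_dvd_pow_iff_le_right (by norm_num)).1 h2
  by_contra hne
  have h6 : 4 ≤ n := by
    rcases Nat.lt_or_ge n 4 with h | h
    · have : n = 3 := by omega
      rw [this] at hne; norm_num at hne
    · exact h
  have h7 : 2 ^ 4 ∣ 2 * (4 * k) := by
    rw [← h1]; exact (pow_dvd_pow 2 h6).trans h3
  have := H.A.odd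
  omega

theorem Syl.sq : ∀ x ∈ (P : Subgroup G), x * x = 1 := by
  intro x hx
  have h8 : x ^ 8 = 1 := by
    have h1 : (⟨x, hx⟩ : (P : Subgroup G)) ^ Nat.card (P : Subgroup G) = 1 := pow_card_eq_one'
    have h2 : Nat.card (P : Subgroup G) = 8 := H.card
    rw [h2] at h1
    exact congrArg Subtype.val h1
  have hxJ := H.PJ x hx
  rcases H.X.cent x hxJ with h | h
  · exact H.A.sq x h h8
  · have h9 : (x * J) ^ 8 = 1 := by
      rw [(show Commute x J from hxJ).mul_pow, h8, one_mul]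
      have : J ^ 8 = (J * J) ^ 4 := by rw [← pow_two, ← pow_mul]
      rw [this, H.X.sq, one_pow]
    have := H.A.sq _ h h9
    calc x * x = x * (x * (J * J)) := by rw [H.X.sq, mul_one]
      _ = x * (x * J) * J := by group
      _ = x * (J * x) * J := by rw [hxJ]
      _ = x * J * (x * J) := by group
      _ = 1 := this

theorem Syl.comm : ∀ x ∈ (P : Subgroup G), ∀ y ∈ (P : Subgroup G), x * y = y * x := by
  intro x hx y hy
  have h1 := H.sq x hx
  have h2 := H.sq y hy
  have h3 := H.sq _ ((P : Subgroup G).mul_mem hx hy)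
  have e1 : x⁻¹ = x := inv_eq_of_mul_eq_one_right h1
  have e2 : y⁻¹ = y := inv_eq_of_mul_eq_one_right h2
  have e3 : (x * y)⁻¹ = x * y := inv_eq_of_mul_eq_one_right h3
  rw [_root_.mul_inv_rev, e1, e2] at e3
  exact e3.symm

theorem Syl.isComm : IsMulCommutative ↥(P : Subgroup G) := ⟨⟨fun x y => Subtype.ext (H.comm x x.2 y y.2)⟩⟩

theorem Syl.ord {x : G} (hx : x ∈ (P : Subgroup G)) (h1 : x ≠ 1) : orderOf x = 2 :=
  orderOf_eq_prime (by rw [pow_two]; exact H.sq x hx) h1

theorem Syl.conjT {v : G} (hv : v ∈ T) (h2 : orderOf v = 2) : ∃ g : G, g * J * g⁻¹ = v := by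
  obtain ⟨g, hg⟩ := H.fus
  obtain ⟨t, ht, he⟩ := H.A.conj _ hg v hv (by
    have : orderOf (g * J * g⁻¹) = orderOf J := by
      have := MulEquiv.orderOf_eq (MulAut.conj g) J
      rwa [MulAut.conj_apply] at this
    rw [this, H.X.ord]) h2
  exact ⟨t * g, by rw [← he]; group⟩

theorem Syl.burnside {x g : G} (hx : x ∈ (P : Subgroup G)) (hy : g * x * g⁻¹ ∈ (P : Subgroup G)) :
    ∃ n ∈ normalizer ((P : Subgroup G) : Set G), n * x * n⁻¹ = g * x * g⁻¹ := by
  haveI : Fact (Nat.Prime 2) := ⟨Nat.prime_two⟩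
  haveI := H.isComm
  obtain ⟨n, hn, he⟩ := P.conj_eq_normalizer_conj_of_mem x g⁻¹ hx (by rw [inv_inv]; exact hy)
  rw [inv_inv] at he
  exact ⟨n⁻¹, inv_mem hn, by rw [inv_inv]; exact he.symm⟩

theorem Syl.cardV : Nat.card ↥((P : Subgroup G) ⊓ T) = 4 := by
  have hM : (T.subgroupOf (P : Subgroup G)).index = 2 := by
    rw [index_eq_two_iff]
    refine ⟨⟨J, H.JP⟩, fun b => ?_⟩
    rw [mem_subgroupOf, mem_subgroupOf]
    show Xor ((b : G) * J ∈ T) ((b : G) ∈ T)
    rcases H.X.cent b (H.PJ b b.2) with h | h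
    · right
      refine ⟨h, fun h' => H.X.JT ?_⟩
      have := T.mul_mem (T.inv_mem h) h'
      rwa [inv_mul_cancel_left] at this
    · left
      refine ⟨h, fun h' => H.X.JT ?_⟩
      have := T.mul_mem (T.inv_mem h') h
      rwa [inv_mul_cancel_left] at this
  have h2 := card_mul_index (T.subgroupOf (P : Subgroup G))
  rw [hM, ← inf_subgroupOf_left, Nat.card_congr (subgroupOfEquivOfLe inf_le_left).toEquiv] at h2
  have h3 : Nat.card (P : Subgroup G) = 8 := H.card
  omega

theorem Syl.all : ∀ x ∈ (P : Subgroup G), x ≠ 1 → ∃ n ∈ normalizer ((P : Subgroup G) : Set G), n * J * n⁻¹ = x := by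
  haveI : Fact (Nat.Prime 2) := ⟨Nat.prime_two⟩
  set NP := normalizer ((P : Subgroup G) : Set G) with hNP
  let S : Set G := {y | ∃ n ∈ NP, n * J * n⁻¹ = y}
  have hSP : ∀ y ∈ S, y ∈ (P : Subgroup G) ∧ y ≠ 1 := by
    rintro y ⟨n, hn, rfl⟩
    refine ⟨(mem_normalizer_iff.1 hn J).1 H.JP, ?_⟩
    intro h
    apply H.X.ne
    have : J = n⁻¹ * (n * J * n⁻¹) * n := by group
    rw [this, h]; group
  have hSn : ∀ y ∈ S, ∀ n ∈ NP, n * y * n⁻¹ ∈ S := by
    rintro y ⟨n, hn, rfl⟩ n' hn'
    exact ⟨n' * n, mul_mem hn' hn, by group⟩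
  have hVS : ∀ v ∈ (P : Subgroup G), v ∈ T → v ≠ 1 → v ∈ S := by
    intro v hv hvT hv1
    obtain ⟨g, hg⟩ := H.conjT hvT (H.ord hv hv1)
    obtain ⟨n, hn, he⟩ := H.burnside (g := g) H.JP (by rw [hg]; exact hv)
    exact ⟨n, hn, by rw [he, hg]⟩
  have hJS : J ∈ S := ⟨1, one_mem _, by group⟩
  have hodd : S.ncard % 2 = 1 := by
    have h1 := card_orbit NP S J (fun n hn => ⟨n, hn, rfl⟩) (fun y hy => hy)
    have h2 : Nat.card (P : Subgroup G) ∣ Nat.card ↥(NP ⊓ centralizer {J}) := card_dvd_of_le (le_inf le_normalizer H.le)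
    have h3 : Nat.card (P : Subgroup G) = 8 := H.card
    rw [h3] at h2
    by_contra hcon
    have h4 : 2 ∣ S.ncard := by omega
    have h5 : 2 ^ 4 ∣ Nat.card NP := by
      rw [h1]
      obtain ⟨a, ha⟩ := h4
      obtain ⟨b, hb⟩ := h2
      rw [ha, hb]
      exact ⟨a * b, by ring⟩
    have h6 : 2 ^ 4 ∣ Nat.card (P : Subgroup G) := P.pow_dvd_card_of_pow_dvd_card (h5.trans (card_subgroup_dvd_card NP))
    rw [h3] at h6
    norm_num at h6
  -- some product J v lies in S
  have hex : ∃ v ∈ (P : Subgroup G), v ∈ T ∧ v ≠ 1 ∧ J * v ∈ S := by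
    by_contra hcon
    push Not at hcon
    have hS : S = insert J ((((P : Subgroup G) ⊓ T : Subgroup G) : Set G) \ {1}) := by
      ext y
      constructor
      · intro hy
        obtain ⟨hyP, hy1⟩ := hSP y hy
        rcases H.X.cent y (H.PJ y hyP) with h | h
        · exact Or.inr ⟨⟨hyP, h⟩, hy1⟩
        · left
          by_contra hyJ
          have h1 : y = J * (y * J) := by rw [← mul_assoc, ← H.PJ y hyP, mul_assoc, H.X.sq, mul_one]
          refine hcon (y * J) ((P : Subgroup G).mul_mem hyP H.JP) h ?_ (h1 ▸ hy)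
          intro h2
          apply hyJ
          have := eq_inv_of_mul_eq_one_left h2
          rwa [H.X.inv] at this
      · rintro (rfl | hy)
        · exact hJS
        · exact hVS y hy.1.1 hy.1.2 hy.2
    have hn : ((((P : Subgroup G) ⊓ T : Subgroup G) : Set G) \ {1}).ncard = 3 := by
      have h1 : (((P : Subgroup G) ⊓ T : Subgroup G) : Set G).ncard = 4 := H.cardV
      have h2 := Set.ncard_sdiff_singleton_add_one (a := (1 : G)) (one_mem ((P : Subgroup G) ⊓ T)) (Set.toFinite _)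
      have h3 : ((((P : Subgroup G) ⊓ T : Subgroup G) : Set G) \ {1}).ncard + 1 = (((P : Subgroup G) ⊓ T : Subgroup G) : Set G).ncard := h2
      omega
    have h1 : S.ncard = 4 := by
      rw [hS, Set.ncard_insert_of_notMem _ (Set.toFinite _), hn]
      intro h
      exact H.X.JT h.1.2
    omega
  obtain ⟨v, hv, hvT, hv1, hJv⟩ := hex
  intro x hx hx1
  rcases H.X.cent x (H.PJ x hx) with h | h
  · exact hVS x hx h hx1
  · have h1 : x = J * (x * J) := by rw [← mul_assoc, ← H.PJ x hx, mul_assoc, H.X.sq, mul_one]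
    by_cases h2 : x * J = 1
    · have : x = J := by
        have := eq_inv_of_mul_eq_one_left h2
        rwa [H.X.inv] at this
      rw [this]; exact hJS
    · obtain ⟨t, ht, he⟩ := H.A.conj v hvT (x * J) h (H.ord hv hv1) (H.ord ((P : Subgroup G).mul_mem hx H.JP) h2)
      have h3 : t * (J * v) * t⁻¹ = x := by
        rw [h1, ← he]
        calc t * (J * v) * t⁻¹ = (t * J) * v * t⁻¹ := by group
          _ = J * (t * v * t⁻¹) := by rw [H.X.comm t ht]; group
      obtain ⟨n, hn, he'⟩ := H.burnside (x := J * v) (g := t) ((P : Subgroup G).mul_mem H.JP hv) (by rw [h3]; exact hx)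
      have := hSn _ hJv n hn
      rw [he', h3] at this
      exact this

theorem Syl.conj_inv {x : G} (hx : orderOf x = 2) : ∃ g : G, g * J * g⁻¹ = x := by
  haveI : Fact (Nat.Prime 2) := ⟨Nat.prime_two⟩
  have h1 : IsPGroup 2 (zpowers x) := by
    rw [IsPGroup.iff_card]
    exact ⟨1, by rw [Nat.card_zpowers, hx, pow_one]⟩
  obtain ⟨Q, hQ⟩ := h1.exists_le_sylow
  obtain ⟨g, hg⟩ := MulAction.exists_smul_eq G P Q
  have h2 : x ∈ (Q : Subgroup G) := hQ (mem_zpowers x)
  rw [← hg] at h2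
  have h3 : g⁻¹ * x * g ∈ (P : Subgroup G) := by
    rw [Sylow.coe_subgroup_smul, Subgroup.mem_pointwise_smul_iff_inv_smul_mem, ← map_inv, MulAut.smul_def, MulAut.conj_apply, inv_inv] at h2
    exact h2
  have h4 : g⁻¹ * x * g ≠ 1 := by
    intro h
    have : x = 1 := by
      have h5 : x = g * (g⁻¹ * x * g) * g⁻¹ := by group
      rw [h5, h]; group
    rw [this, orderOf_one] at hx
    omega
  obtain ⟨n, -, hn⟩ := H.all _ h3 h4
  exact ⟨g * n, by
    calc g * n * J * (g * n)⁻¹ = g * (n * J * n⁻¹) * g⁻¹ := by group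
      _ = x := by rw [hn]; group⟩

theorem Syl.cardN : Nat.card (normalizer ((P : Subgroup G) : Set G)) = 7 * Nat.card ↥(normalizer ((P : Subgroup G) : Set G) ⊓ centralizer ({J} : Set G)) := by
  have h1 := card_orbit (normalizer ((P : Subgroup G) : Set G)) (((P : Subgroup G) : Set G) \ {1}) J (by
    intro n hn
    refine ⟨(mem_normalizer_iff.1 hn J).1 H.JP, ?_⟩
    intro h
    apply H.X.ne
    have : J = n⁻¹ * (n * J * n⁻¹) * n := by group
    rw [this, Set.mem_singleton_iff.1 h]; group) (fun y hy => H.all y hy.1 hy.2)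
  rw [h1]
  congr 1
  have h2 : Nat.card (P : Subgroup G) = 8 := H.card
  have h3 := Set.ncard_sdiff_singleton_add_one (a := (1 : G)) (s := ((P : Subgroup G) : Set G)) (one_mem (P : Subgroup G)) (Set.toFinite _)
  have h4 : ((P : Subgroup G) : Set G).ncard = 8 := h2
  omega

end

end H92.JA
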