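import Mathlib
import Cfsg.Prelude.Def_TwoFusion
import Cfsg.Prelude.Def_SporadicB
import Cfsg.Agent.Lib.H92.JA3
import Cfsg.Agent.Lib.H2.GenCent

/-!
Centralizer of a 2-central involution equal to `⟨J⟩ × A_5`: the group is simple.
-/

set_option autoImplicit false
set_option linter.unusedSectionVars false
set_option linter.unusedVariables false
set_option linter.style.haveILetI false
open Cfsg

namespace H92.JA
open Subgroup

/-! ### the alternating groups of degree 4 and 5 -/

theorem sq5 : ∀ x : Equiv.Perm (Fin 5), Equiv.Perm.sign x = 1 → x ^ 8 = 1 → x * x = 1 := by decide +kernel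
theorem sq4 : ∀ x : Equiv.Perm (Fin 4), Equiv.Perm.sign x = 1 → x ^ 8 = 1 → x * x = 1 := by decide +kernel
theorem cj5 : ∀ x : Equiv.Perm (Fin 5), Equiv.Perm.sign x = 1 → x ≠ 1 → x * x = 1 →
    ∃ t : Equiv.Perm (Fin 5), Equiv.Perm.sign t = 1 ∧ t * (Equiv.swap 0 1 * Equiv.swap 2 3) = x * t := by decide +kernel
theorem cj4 : ∀ x : Equiv.Perm (Fin 4), Equiv.Perm.sign x = 1 → x ≠ 1 → x * x = 1 →
    ∃ t : Equiv.Perm (Fin 4), Equiv.Perm.sign t = 1 ∧ t * (Equiv.swap 0 1 * Equiv.swap 2 3) = x * t := by decide +kernel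

theorem card5 : Nat.card (alternatingGroup (Fin 5)) = 4 * 15 := by
  rw [Nat.card_eq_fintype_card]; decide +kernel
theorem card4 : Nat.card (alternatingGroup (Fin 4)) = 4 * 3 := by
  rw [Nat.card_eq_fintype_card]; decide +kernel

variable {G : Type*} [Group G]

theorem conj_alt {m : ℕ} {x0 : Equiv.Perm (Fin m)}
    (h : ∀ x : Equiv.Perm (Fin m), Equiv.Perm.sign x = 1 → x ≠ 1 → x * x = 1 → ∃ t : Equiv.Perm (Fin m), Equiv.Perm.sign t = 1 ∧ t * x0 = x * t)
    (x y : alternatingGroup (Fin m)) (hx : orderOf x = 2) (hy : orderOf y = 2) : ∃ t : alternatingGroup (Fin m), t * x * t⁻¹ = y := by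
  have key : ∀ z : alternatingGroup (Fin m), orderOf z = 2 → ∃ t : Equiv.Perm (Fin m), Equiv.Perm.sign t = 1 ∧ t * x0 = z * t := by
    intro z hz
    apply h
    · exact Equiv.Perm.mem_alternatingGroup.1 z.2
    · intro h1
      have h2 : z = 1 := Subtype.ext h1
      rw [h2, orderOf_one] at hz
      omega
    · have h1 := pow_orderOf_eq_one z
      rw [hz, pow_two] at h1
      exact congrArg Subtype.val h1
  obtain ⟨s, hs, hs'⟩ := key x hx
  obtain ⟨t, ht, ht'⟩ := key y hy
  refine ⟨⟨t, Equiv.Perm.mem_alternatingGroup.2 ht⟩ * ⟨s, Equiv.Perm.mem_alternatingGroup.2 hs⟩⁻¹, ?_⟩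
  apply Subtype.ext
  show t * s⁻¹ * (x : Equiv.Perm (Fin m)) * (t * s⁻¹)⁻¹ = y
  have e1 : s⁻¹ * (x : Equiv.Perm (Fin m)) * s = x0 := by rw [mul_assoc, ← hs']; group
  calc t * s⁻¹ * (x : Equiv.Perm (Fin m)) * (t * s⁻¹)⁻¹ = t * (s⁻¹ * x * s) * t⁻¹ := by group
    _ = y := by rw [e1, ht']; group

theorem alt5 {T : Subgroup G} (e : ↥T ≃* alternatingGroup (Fin 5)) : Alt T 15 :=
  alt_of e card5 (by norm_num) (fun x h => Subtype.ext (sq5 x (Equiv.Perm.mem_alternatingGroup.1 x.2) (congrArg Subtype.val h)))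
    (conj_alt cj5)

theorem alt4 {T : Subgroup G} (e : ↥T ≃* alternatingGroup (Fin 4)) : Alt T 3 :=
  alt_of e card4 (by norm_num) (fun x h => Subtype.ext (sq4 x (Equiv.Perm.mem_alternatingGroup.1 x.2) (congrArg Subtype.val h)))
    (conj_alt cj4)

section
variable [Finite G] {J : G} {T : Subgroup G} {P : Sylow 2 G} {k : ℕ} (H : Syl J T P k)
include H

/-- fusion inside the centralizer of `J` -/
theorem Syl.burnsideC {v t : G} (hv : v ∈ (P : Subgroup G)) (ht : t ∈ T) (hy : t * v * t⁻¹ ∈ (P : Subgroup G)) :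
    ∃ n ∈ normalizer ((P : Subgroup G) : Set G) ⊓ centralizer ({J} : Set G), n * v * n⁻¹ = t * v * t⁻¹ := by
  haveI : Fact (Nat.Prime 2) := ⟨Nat.prime_two⟩
  let C := centralizer ({J} : Set G)
  have hle : (P : Subgroup G) ≤ C := H.le
  let P' : Sylow 2 ↥C := P.subtype hle
  have hP' : ∀ x : ↥C, x ∈ (P' : Subgroup ↥C) ↔ (x : G) ∈ (P : Subgroup G) := fun x => Iff.rfl
  haveI : IsMulCommutative ↥(P' : Subgroup ↥C) := ⟨⟨fun x y => by
    apply Subtype.ext; apply Subtype.ext
    exact H.comm _ ((hP' x.1).1 x.2) _ ((hP' y.1).1 y.2)⟩⟩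
  have htC : t ∈ C := mem_centralizer_singleton_iff.2 (H.X.comm t ht)
  obtain ⟨n, hn, he⟩ := P'.conj_eq_normalizer_conj_of_mem (⟨v, hle hv⟩ : ↥C) (⟨t, htC⟩⁻¹ : ↥C) hv (by
    rw [inv_inv]; exact hy)
  rw [inv_inv] at he
  have he' : t * v * t⁻¹ = (n : G)⁻¹ * v * n := congrArg Subtype.val he
  refine ⟨(n : G)⁻¹, ⟨Subgroup.inv_mem _ ?_, Subgroup.inv_mem _ n.2⟩, by rw [inv_inv]; exact he'.symm⟩
  have hn : n ∈ normalizer ((P' : Subgroup ↥C) : Set ↥C) := hn
  rw [mem_normalizer_iff] at hn ⊢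
  intro x
  constructor
  · intro hx
    exact (hn ⟨x, hle hx⟩).1 hx
  · intro hx
    have hxC : (n : G) * x * (n : G)⁻¹ ∈ C := hle hx
    have hxC' : x ∈ C := by
      have := C.mul_mem (C.mul_mem (C.inv_mem n.2) hxC) n.2
      have e : (n : G)⁻¹ * ((n : G) * x * (n : G)⁻¹) * n = x := by group
      rwa [e] at this
    exact (hn ⟨x, hxC'⟩).2 hx

/-- a normal subgroup of odd order is trivial -/
theorem Syl.odd_normal (hT : ∀ K : Subgroup G, K ≤ T → (∀ t ∈ T, ∀ x ∈ K, t * x * t⁻¹ ∈ K) → Odd (Nat.card K) → K = ⊥)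
    (N : Subgroup G) [N.Normal] (hN : Odd (Nat.card N)) : N = ⊥ := by
  have h8 : Nat.card (P : Subgroup G) = 8 := H.card
  have hcyc : ¬ IsCyclic ↥(P : Subgroup G) := by
    intro h
    obtain ⟨g, hg⟩ := h.exists_generator
    have h1 := orderOf_eq_card_of_forall_mem_zpowers hg
    rw [h8] at h1
    have h2 : g * g = 1 := Subtype.ext (H.sq g g.2)
    have h3 : orderOf g ∣ 2 := orderOf_dvd_of_pow_eq_one (by rw [pow_two]; exact h2)
    rw [h1] at h3
    norm_num at h3
  have hcop : (Nat.card (P : Subgroup G)).Coprime (Nat.card N) := by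
    rw [h8]
    have : (8 : ℕ) = 2 ^ 3 := by norm_num
    rw [this]
    exact Nat.Coprime.pow_left 3 ((Nat.coprime_two_left).2 hN)
  have hgen := H2.GenCent.main (P : Subgroup G) N H.isComm hcyc (by rw [Subgroup.normalizer_eq_top]; exact le_top) hcop
  rw [← hgen, H2.GenCent.gen, iSup_eq_bot]
  intro a
  rw [iSup_eq_bot]
  rintro ⟨ha, ha1⟩
  -- conjugate to J
  obtain ⟨g, hg⟩ := H.conj_inv (H.ord ha ha1)
  rw [eq_bot_iff]
  rintro x ⟨hxN, hxa⟩
  have hxa' : x * a = a * x := mem_centralizer_singleton_iff.1 hxa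
  -- the group N ⊓ C(J)
  have hK0 : N ⊓ centralizer ({J} : Set G) ≤ T := by
    rintro y ⟨hyN, hyJ⟩
    have hyJ' : y * J = J * y := mem_centralizer_singleton_iff.1 hyJ
    rcases H.X.cent y hyJ' with h | h
    · exact h
    · exfalso
      have hodd : Odd (orderOf y) := by
        have h1 : orderOf (⟨y, hyN⟩ : ↥N) ∣ Nat.card N := orderOf_dvd_natCard _
        rw [Subgroup.orderOf_mk] at h1
        exact Odd.of_dvd_nat hN h1
      have h2 : (y * J) ^ orderOf y = J := by
        rw [(show Commute y J from hyJ').mul_pow, pow_orderOf_eq_one, one_mul]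
        obtain ⟨r, hr⟩ := hodd
        rw [hr, pow_add, pow_mul, pow_two, H.X.sq, one_pow, one_mul, pow_one]
      exact H.X.JT (h2 ▸ T.pow_mem h _)
  have hK1 : N ⊓ centralizer ({J} : Set G) = ⊥ := by
    apply hT _ hK0
    · rintro t ht y ⟨hyN, hyJ⟩
      refine ⟨(inferInstance : N.Normal).conj_mem y hyN t, ?_⟩
      have hyJ' : y * J = J * y := mem_centralizer_singleton_iff.1 hyJ
      have htJ := H.X.comm t ht
      apply mem_centralizer_singleton_iff.2
      have h1 : Commute t J := htJ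
      have h2 : Commute y J := hyJ'
      exact ((h1.mul_left h2).mul_left h1.inv_left).eq
    · have h1 : Nat.card ↥(N ⊓ centralizer ({J} : Set G)) ∣ Nat.card N := card_dvd_of_le inf_le_left
      exact Odd.of_dvd_nat hN h1
  have hx1 : g⁻¹ * x * g ∈ N ⊓ centralizer ({J} : Set G) := by
    refine ⟨?_, ?_⟩
    · have := (inferInstance : N.Normal).conj_mem x hxN g⁻¹
      rwa [inv_inv] at this
    · apply mem_centralizer_singleton_iff.2
      calc g⁻¹ * x * g * J = g⁻¹ * (x * (g * J * g⁻¹)) * g := by group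
        _ = g⁻¹ * ((g * J * g⁻¹) * x) * g := by rw [hg, hxa']
        _ = J * (g⁻¹ * x * g) := by group
  rw [hK1, mem_bot] at hx1
  rw [mem_bot]
  have : x = g * (g⁻¹ * x * g) * g⁻¹ := by group
  rw [this, hx1]; group

/-- with a simple factor `T` the group is simple -/
theorem Syl.simple (hTs : IsSimpleGroup ↥T) : IsSimpleGroup G := by
  haveI : Fact (Nat.Prime 2) := ⟨Nat.prime_two⟩
  haveI : Nontrivial G := ⟨⟨J, 1, H.X.ne⟩⟩
  have h8 : Nat.card (P : Subgroup G) = 8 := H.card
  have hsub : ∀ K : Subgroup G, K ≤ T → (∀ t ∈ T, ∀ x ∈ K, t * x * t⁻¹ ∈ K) → K = ⊥ ∨ K = T := by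
    intro K hK hn
    have h1 : (K.subgroupOf T).Normal := ⟨fun x hx t => hn t t.2 x hx⟩
    rcases h1.eq_bot_or_eq_top with h | h
    · left
      rw [subgroupOf_eq_bot, disjoint_iff, inf_eq_left.2 hK] at h
      exact h
    · right
      rw [subgroupOf_eq_top] at h
      exact le_antisymm hK h
  refine ⟨fun N hN => ?_⟩
  haveI := hN
  by_cases hodd : Odd (Nat.card N)
  · left
    apply H.odd_normal _ N hodd
    intro K hK hn ho
    rcases hsub K hK hn with h | h
    · exact h
    · exfalso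
      rw [h, H.A.card] at ho
      rcases ho with ⟨r, hr⟩
      omega
  · right
    have heven : 2 ∣ Nat.card N := by
      rw [Nat.not_odd_iff_even] at hodd
      exact hodd.two_dvd
    obtain ⟨z, hz⟩ := exists_prime_orderOf_dvd_card' (G := ↥N) 2 heven
    have hz' : orderOf (z : G) = 2 := by rw [Subgroup.orderOf_coe]; exact hz
    have hall : ∀ x : G, orderOf x = 2 → x ∈ N := by
      intro x hx
      obtain ⟨g, hg⟩ := H.conj_inv hz'
      obtain ⟨g', hg'⟩ := H.conj_inv hx
      have h1 : J ∈ N := by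
        have := hN.conj_mem _ z.2 g⁻¹
        have e : g⁻¹ * (z : G) * g⁻¹⁻¹ = J := by rw [← hg]; group
        rwa [e] at this
      rw [← hg']
      exact hN.conj_mem _ h1 g'
    have hJN : J ∈ N := hall J H.X.ord
    have hTN : T ≤ N := by
      rcases hsub (N ⊓ T) inf_le_right (fun t ht x hx => ⟨hN.conj_mem x hx.1 t, T.mul_mem (T.mul_mem ht hx.2) (T.inv_mem ht)⟩) with h | h
      · exfalso
        obtain ⟨g, hg⟩ := H.fus
        have h1 : g * J * g⁻¹ ∈ N ⊓ T := ⟨hN.conj_mem J hJN g, hg⟩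
        rw [h, mem_bot] at h1
        apply H.X.ne
        have : J = g⁻¹ * (g * J * g⁻¹) * g := by group
        rw [this, h1]; group
      · exact inf_eq_right.1 h
    have hCN : centralizer ({J} : Set G) ≤ N := by
      intro c hc
      rcases H.X.cent c (mem_centralizer_singleton_iff.1 hc) with h | h
      · exact hTN h
      · have := N.mul_mem (hTN h) hJN
        rwa [mul_assoc, H.X.sq, mul_one] at this
    have hPN : (P : Subgroup G) ≤ N := H.le.trans hCN
    -- the normalizer of P lies in N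
    set NP := normalizer ((P : Subgroup G) : Set G) with hNPdef
    have hNP : NP ≤ N := by
      set Nc := NP ⊓ centralizer ({J} : Set G) with hNc
      have h1 : Nc ≤ NP ⊓ N := inf_le_inf le_rfl hCN
      have h2 : Nat.card NP = 7 * Nat.card ↥Nc := H.cardN
      have h3 : Nat.card ↥Nc ∣ Nat.card ↥(NP ⊓ N) := card_dvd_of_le h1
      have h4 : Nat.card ↥(NP ⊓ N) ∣ Nat.card NP := card_dvd_of_le inf_le_left
      obtain ⟨r, hr⟩ := h3
      have hpos : 0 < Nat.card ↥Nc := Nat.card_pos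
      have h5 : r ∣ 7 := by
        rw [h2, hr, mul_comm 7] at h4
        exact Nat.dvd_of_mul_dvd_mul_left hpos h4
      rcases (Nat.dvd_prime (by norm_num : Nat.Prime 7)).1 h5 with h6 | h6
      · exfalso
        rw [h6, mul_one] at hr
        have h7 : Nc = NP ⊓ N := Subgroup.eq_of_le_of_card_ge h1 hr.le
        -- Nc centralizes P
        have h8' : ∀ n ∈ Nc, ∀ x ∈ (P : Subgroup G), n * x = x * n := by
          intro n hn x hx
          by_cases hx1 : x = 1
          · rw [hx1, mul_one, one_mul]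
          obtain ⟨w, hw, hwx⟩ := H.all x hx hx1
          have h9 : w⁻¹ * n * w ∈ Nc := by
            rw [h7] at hn ⊢
            refine ⟨NP.mul_mem (NP.mul_mem (NP.inv_mem hw) hn.1) hw, ?_⟩
            have := hN.conj_mem n hn.2 w⁻¹
            rwa [inv_inv] at this
          have h10 : (w⁻¹ * n * w) * J = J * (w⁻¹ * n * w) := mem_centralizer_singleton_iff.1 h9.2
          rw [← hwx]
          calc n * (w * J * w⁻¹) = w * ((w⁻¹ * n * w) * J) * w⁻¹ := by group
            _ = w * (J * (w⁻¹ * n * w)) * w⁻¹ := by rw [h10]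
            _ = w * J * w⁻¹ * n := by group
        -- two different involutions of P ∩ T
        have hV := H.cardV
        obtain ⟨v, v', hv, hv', hv1, hv'1, hvv⟩ : ∃ v v' : G, v ∈ (P : Subgroup G) ⊓ T ∧ v' ∈ (P : Subgroup G) ⊓ T ∧ v ≠ 1 ∧ v' ≠ 1 ∧ v ≠ v' := by
          have h9 : (2 : ℕ) < (((P : Subgroup G) ⊓ T : Subgroup G) : Set G).ncard := by
            have : (((P : Subgroup G) ⊓ T : Subgroup G) : Set G).ncard = 4 := hV
            omega
          obtain ⟨v, hv, hv1⟩ := Set.exists_mem_notMem_of_ncard_lt_ncard (s := {1}) (t := (((P : Subgroup G) ⊓ T : Subgroup G) : Set G)) (by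
            rw [Set.ncard_singleton]; omega) (Set.toFinite _)
          obtain ⟨v', hv', hv'1⟩ := Set.exists_mem_notMem_of_ncard_lt_ncard (s := {1, v}) (t := (((P : Subgroup G) ⊓ T : Subgroup G) : Set G)) (by
            have h10 := Set.ncard_insert_le (1 : G) {v}
            rw [Set.ncard_singleton] at h10
            omega) (Set.toFinite _)
          simp only [Set.mem_insert_iff, Set.mem_singleton_iff, not_or] at hv1 hv'1
          exact ⟨v, v', hv, hv', hv1, hv'1.1, fun h => hv'1.2 h.symm⟩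
        obtain ⟨t, ht, he⟩ := H.A.conj v hv.2 v' hv'.2 (H.ord hv.1 hv1) (H.ord hv'.1 hv'1)
        obtain ⟨n, hn, hn'⟩ := H.burnsideC hv.1 ht (by rw [he]; exact hv'.1)
        have h9 := h8' n hn v hv.1
        apply hvv
        rw [← he, ← hn', h9, mul_inv_cancel_right]
      · rw [h6] at hr
        have h7 : NP ⊓ N = NP := Subgroup.eq_of_le_of_card_ge inf_le_left (by rw [h2, hr, mul_comm])
        exact inf_eq_left.1 h7
    have h9 : NP ⊔ N = ⊤ := P.normalizer_sup_eq_top' hPN
    rw [sup_eq_right.2 hNP] at h9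
    exact h9

end

/-- the direct product as an isomorphism -/
theorem exists_equiv {J : G} {T : Subgroup G} (X : Ctx J T) {A : Type*} [Group A] (e : ↥T ≃* A) :
    Nonempty (↥(centralizer ({J} : Set G)) ≃* Multiplicative (ZMod 2) × A) := by
  haveI : Fact (Nat.Prime 2) := ⟨Nat.prime_two⟩
  have hJC : zpowers J ≤ centralizer ({J} : Set G) := by
    rw [zpowers_le]; exact mem_centralizer_singleton_iff.2 rfl
  have hTC : T ≤ centralizer ({J} : Set G) := fun x hx => mem_centralizer_singleton_iff.2 (X.comm x hx)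
  let z : Multiplicative (ZMod 2) ≃* ↥(zpowers J) := mulEquivOfPrimeCardEq (p := 2) (by
    rw [Nat.card_eq_fintype_card]; rfl) (by rw [Nat.card_zpowers, X.ord])
  have hzm : ∀ y ∈ zpowers J, y = 1 ∨ y = J := by
    intro y hy
    obtain ⟨k, rfl⟩ := mem_zpowers_iff.1 hy
    rcases Int.even_or_odd' k with ⟨n, rfl | rfl⟩
    · left; rw [zpow_mul, zpow_ofNat, pow_two, X.sq, one_zpow]
    · right; rw [zpow_add, zpow_mul, zpow_ofNat, pow_two, X.sq, one_zpow, one_mul, zpow_one]
  let f : ↥(zpowers J) × ↥T →* ↥(centralizer ({J} : Set G)) := MonoidHom.noncommCoprod (inclusion hJC) (inclusion hTC) (by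
    intro a b
    apply Subtype.ext
    show (a : G) * b = b * a
    rcases hzm a a.2 with h | h <;> rw [h]
    · rw [one_mul, mul_one]
    · exact (X.comm b b.2).symm)
  have hf : ∀ a b, ((f (a, b) : ↥(centralizer ({J} : Set G))) : G) = (a : G) * b := fun a b => rfl
  have hinj : Function.Injective f := by
    rw [injective_iff_map_eq_one]
    rintro ⟨a, b⟩ hab
    have h1 : (a : G) * b = 1 := by rw [← hf, hab]; rfl
    rcases hzm a a.2 with h | h
    · rw [h, one_mul] at h1
      exact Prod.ext (Subtype.ext h) (Subtype.ext h1)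
    · exfalso
      rw [h] at h1
      have h2 := eq_inv_of_mul_eq_one_left h1
      exact X.JT (h2 ▸ T.inv_mem b.2)
  have hsurj : Function.Surjective f := by
    intro c
    rcases X.cent c (mem_centralizer_singleton_iff.1 c.2) with h | h
    · exact ⟨(1, ⟨c, h⟩), Subtype.ext (by rw [hf]; exact one_mul _)⟩
    · refine ⟨(⟨J, mem_zpowers J⟩, ⟨c * J, h⟩), Subtype.ext ?_⟩
      rw [hf]
      show J * ((c : G) * J) = c
      rw [← mul_assoc, ← mem_centralizer_singleton_iff.1 c.2, mul_assoc, X.sq, mul_one]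
  exact ⟨(MulEquiv.ofBijective f ⟨hinj, hsurj⟩).symm.trans (MulEquiv.prodCongr z.symm e)⟩

end H92.JA
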