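import Mathlib
import Cfsg.Prelude.Def_TwoFusion
import Cfsg.Prelude.Def_SporadicB
import Cfsg.Prelude.Def_Involutions
import Cfsg.Agent.Lib.H92.JA4
import Cfsg.Agent.Lib.H4.Burnside

/-!
Centralizer of a 2-central involution equal to `⟨J⟩ × A_4`: the normalizer of a Sylow 2-subgroup is strongly embedded.
-/

set_option autoImplicit false
set_option linter.unusedSectionVars false
set_option linter.unusedVariables false
set_option linter.style.haveILetI false
open Cfsg

namespace H92.JA
open Subgroup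

variable {G : Type*} [Group G]

theorem mul4 : ∀ x : Equiv.Perm (Fin 4), Equiv.Perm.sign x = 1 → x * x = 1 → ∀ y : Equiv.Perm (Fin 4), Equiv.Perm.sign y = 1 →
    y * y = 1 → x * y * (x * y) = 1 := by decide +kernel

theorem cen4 : ∀ x : Equiv.Perm (Fin 4), Equiv.Perm.sign x = 1 →
    x * (Equiv.swap 0 1 * Equiv.swap 2 3) = (Equiv.swap 0 1 * Equiv.swap 2 3) * x → x * x = 1 := by decide +kernel

/-- the data for `m = 4` -/
structure Syl4 (J : G) (T : Subgroup G) (P : Sylow 2 G) : Prop where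
  H : Syl J T P 3
  mul : ∀ x ∈ T, ∀ y ∈ T, x * x = 1 → y * y = 1 → x * y * (x * y) = 1
  cen : ∃ v ∈ T, orderOf v = 2 ∧ ∀ x ∈ T, x * v = v * x → x * x = 1

theorem syl4_of [Finite G] {J : G} {T : Subgroup G} {P : Sylow 2 G} (X : Ctx J T) (e : ↥T ≃* alternatingGroup (Fin 4))
    (JP : J ∈ (P : Subgroup G)) (PJ : ∀ x ∈ (P : Subgroup G), x * J = J * x) (fus : ∃ g : G, g * J * g⁻¹ ∈ T) : Syl4 J T P := by
  refine ⟨⟨X, alt4 e, JP, PJ, fus⟩, ?_, ?_⟩
  · intro x hx y hy hxx hyy
    have h1 := mul4 (e ⟨x, hx⟩) (Equiv.Perm.mem_alternatingGroup.1 (e ⟨x, hx⟩).2) (by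
      rw [← Subgroup.coe_mul, ← map_mul]
      have : (⟨x, hx⟩ : ↥T) * ⟨x, hx⟩ = 1 := Subtype.ext hxx
      rw [this, map_one]; rfl) (e ⟨y, hy⟩) (Equiv.Perm.mem_alternatingGroup.1 (e ⟨y, hy⟩).2) (by
      rw [← Subgroup.coe_mul, ← map_mul]
      have : (⟨y, hy⟩ : ↥T) * ⟨y, hy⟩ = 1 := Subtype.ext hyy
      rw [this, map_one]; rfl)
    rw [← Subgroup.coe_mul, ← Subgroup.coe_mul, ← map_mul, ← map_mul] at h1
    have h2 : e (⟨x, hx⟩ * ⟨y, hy⟩ * (⟨x, hx⟩ * ⟨y, hy⟩)) = 1 := Subtype.ext h1
    rw [map_eq_one_iff e e.injective] at h2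
    exact congrArg Subtype.val h2
  · have hv : Equiv.swap (0 : Fin 4) 1 * Equiv.swap 2 3 ∈ alternatingGroup (Fin 4) := by
      rw [Equiv.Perm.mem_alternatingGroup]; decide
    have hv2 : orderOf (⟨Equiv.swap (0 : Fin 4) 1 * Equiv.swap 2 3, hv⟩ : alternatingGroup (Fin 4)) = 2 := by
      apply orderOf_eq_prime
      · apply Subtype.ext
        rw [Subgroup.coe_pow]
        show (Equiv.swap (0 : Fin 4) 1 * Equiv.swap 2 3) ^ 2 = 1
        decide
      · intro h
        have := congrArg Subtype.val h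
        revert this
        show ¬ (Equiv.swap (0 : Fin 4) 1 * Equiv.swap 2 3) = 1
        decide
    refine ⟨e.symm ⟨_, hv⟩, (e.symm ⟨_, hv⟩).2, by rw [Subgroup.orderOf_coe, MulEquiv.orderOf_eq, hv2], ?_⟩
    intro x hx hxv
    have h1 : (⟨x, hx⟩ : ↥T) * e.symm ⟨_, hv⟩ = e.symm ⟨_, hv⟩ * ⟨x, hx⟩ := Subtype.ext hxv
    have h2 := congrArg e h1
    rw [map_mul, map_mul, e.apply_symm_apply] at h2
    have h3 := cen4 (e ⟨x, hx⟩) (Equiv.Perm.mem_alternatingGroup.1 (e ⟨x, hx⟩).2) (congrArg Subtype.val h2)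
    rw [← Subgroup.coe_mul, ← map_mul] at h3
    have h4 : e (⟨x, hx⟩ * ⟨x, hx⟩) = 1 := Subtype.ext h3
    rw [map_eq_one_iff e e.injective] at h4
    exact congrArg Subtype.val h4

section
variable [Finite G] {J : G} {T : Subgroup G} {P : Sylow 2 G} (H : Syl4 J T P)
include H

/-- the Sylow subgroup is the set of elements of square one in `C(J)` -/
theorem Syl4.charJ (x : G) : x ∈ (P : Subgroup G) ↔ x * J = J * x ∧ x * x = 1 := by
  have X := H.H.X
  constructor
  · exact fun hx => ⟨H.H.PJ x hx, H.H.sq x hx⟩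
  let K : Subgroup G :=
    { carrier := {x | x * J = J * x ∧ x * x = 1}
      mul_mem' := by
        rintro a b ⟨ha, ha'⟩ ⟨hb, hb'⟩
        refine ⟨by rw [mul_assoc, hb, ← mul_assoc, ha, mul_assoc], ?_⟩
        have key : ∀ c : G, c * J = J * c → c * c = 1 → (c * J) * (c * J) = 1 := by
          intro c hc hc'
          calc (c * J) * (c * J) = c * (J * c) * J := by group
            _ = (c * c) * (J * J) := by rw [← hc]; group
            _ = 1 := by rw [hc', X.sq, one_mul]
        rcases X.cent a ha with h | h <;> rcases X.cent b hb with h' | h'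
        · exact H.mul a h b h' ha' hb'
        · have h1 := H.mul a h _ h' ha' (key b hb hb')
          have h2 : a * (b * J) = (a * b) * J := by group
          have hab : (a * b) * J = J * (a * b) := by rw [mul_assoc, hb, ← mul_assoc, ha, mul_assoc]
          rw [h2] at h1
          calc a * b * (a * b) = (a * b) * (a * b) * (J * J) := by rw [X.sq, mul_one]
            _ = (a * b) * ((a * b) * J) * J := by group
            _ = (a * b) * (J * (a * b)) * J := by rw [hab]
            _ = _ := by group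
            _ = 1 := h1
        · have h1 := H.mul _ h b h' (key a ha ha') hb'
          have hab : (a * b) * J = J * (a * b) := by rw [mul_assoc, hb, ← mul_assoc, ha, mul_assoc]
          have h2 : (a * J) * b = (a * b) * J := by rw [mul_assoc, ← hb, ← mul_assoc]
          rw [h2] at h1
          calc a * b * (a * b) = (a * b) * (a * b) * (J * J) := by rw [X.sq, mul_one]
            _ = (a * b) * ((a * b) * J) * J := by group
            _ = (a * b) * (J * (a * b)) * J := by rw [hab]
            _ = _ := by group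
            _ = 1 := h1
        · have h1 := H.mul _ h _ h' (key a ha ha') (key b hb hb')
          have h2 : (a * J) * (b * J) = a * b := by
            calc (a * J) * (b * J) = a * (J * b) * J := by group
              _ = a * b * (J * J) := by rw [← hb]; group
              _ = a * b := by rw [X.sq, mul_one]
          rwa [h2] at h1
      one_mem' := ⟨by rw [one_mul, mul_one], one_mul 1⟩
      inv_mem' := by
        rintro a ⟨ha, ha'⟩
        have : a⁻¹ = a := inv_eq_of_mul_eq_one_right ha'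
        show a⁻¹ * J = J * a⁻¹ ∧ a⁻¹ * a⁻¹ = 1
        rw [this]
        exact ⟨ha, ha'⟩ }
  have hK : IsPGroup 2 K := by
    rintro ⟨a, ha, ha'⟩
    exact ⟨1, Subtype.ext (by rw [pow_one, pow_two]; exact ha')⟩
  have hPK : (P : Subgroup G) ≤ K := fun x hx => ⟨H.H.PJ x hx, H.H.sq x hx⟩
  have hKP : K = (P : Subgroup G) := P.is_maximal' hK hPK
  intro hx
  rw [← hKP]
  exact hx

theorem Syl4.char {s : G} (hs : s ∈ (P : Subgroup G)) (hs1 : s ≠ 1) (x : G) :
    x ∈ (P : Subgroup G) ↔ x * s = s * x ∧ x * x = 1 := by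
  obtain ⟨n, hn, rfl⟩ := H.H.all s hs hs1
  have h1 : x ∈ (P : Subgroup G) ↔ n⁻¹ * x * n ∈ (P : Subgroup G) := by
    have := mem_normalizer_iff.1 (Subgroup.inv_mem _ hn) x
    rwa [inv_inv] at this
  rw [h1, H.charJ]
  constructor
  · rintro ⟨h2, h3⟩
    constructor
    · calc x * (n * J * n⁻¹) = n * ((n⁻¹ * x * n) * J) * n⁻¹ := by group
        _ = n * (J * (n⁻¹ * x * n)) * n⁻¹ := by rw [h2]
        _ = _ := by group
    · calc x * x = n * ((n⁻¹ * x * n) * (n⁻¹ * x * n)) * n⁻¹ := by group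
        _ = 1 := by rw [h3]; group
  · rintro ⟨h2, h3⟩
    constructor
    · calc n⁻¹ * x * n * J = n⁻¹ * (x * (n * J * n⁻¹)) * n := by group
        _ = n⁻¹ * ((n * J * n⁻¹) * x) * n := by rw [h2]
        _ = _ := by group
    · calc n⁻¹ * x * n * (n⁻¹ * x * n) = n⁻¹ * (x * x) * n := by group
        _ = 1 := by rw [h3]; group

theorem Syl4.mem_norm {g s : G} (hs : s ∈ (P : Subgroup G)) (hs1 : s ≠ 1) (hg : g * s * g⁻¹ ∈ (P : Subgroup G)) :
    g ∈ normalizer ((P : Subgroup G) : Set G) := by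
  have hg1 : g * s * g⁻¹ ≠ 1 := by
    intro h
    apply hs1
    have : s = g⁻¹ * (g * s * g⁻¹) * g := by group
    rw [this, h]; group
  rw [mem_normalizer_iff]
  intro x
  rw [H.char hs hs1, H.char hg hg1]
  constructor
  · rintro ⟨h2, h3⟩
    constructor
    · calc g * x * g⁻¹ * (g * s * g⁻¹) = g * (x * s) * g⁻¹ := by group
        _ = g * (s * x) * g⁻¹ := by rw [h2]
        _ = _ := by group
    · calc g * x * g⁻¹ * (g * x * g⁻¹) = g * (x * x) * g⁻¹ := by group
        _ = 1 := by rw [h3]; group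
  · rintro ⟨h2, h3⟩
    constructor
    · calc x * s = g⁻¹ * (g * x * g⁻¹ * (g * s * g⁻¹)) * g := by group
        _ = g⁻¹ * (g * s * g⁻¹ * (g * x * g⁻¹)) * g := by rw [h2]
        _ = _ := by group
    · calc x * x = g⁻¹ * (g * x * g⁻¹ * (g * x * g⁻¹)) * g := by group
        _ = 1 := by rw [h3]; group

theorem Syl4.cent_le : centralizer ({J} : Set G) ≤ normalizer ((P : Subgroup G) : Set G) := by
  intro c hc
  rw [mem_centralizer_singleton_iff] at hc
  refine H.mem_norm H.H.JP H.H.X.ne ?_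
  rw [hc, mul_inv_cancel_right]
  exact H.H.JP

theorem Syl4.cardC : Nat.card (centralizer ({J} : Set G)) = 24 := by
  rw [card_cent H.H.X, H.H.A.card]

theorem Syl4.cardN : Nat.card (normalizer ((P : Subgroup G) : Set G)) = 168 := by
  rw [H.H.cardN, inf_eq_right.2 H.cent_le, H.cardC]

theorem Syl4.card_inv {s : G} (hs : orderOf s = 2) : Nat.card (centralizer ({s} : Set G)) = 24 := by
  obtain ⟨g, hg⟩ := H.H.conj_inv hs
  have h1 : centralizer ({s} : Set G) = (centralizer ({J} : Set G)).map (MulAut.conj g).toMonoidHom := by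
    ext x
    constructor
    · intro hx
      rw [mem_centralizer_singleton_iff] at hx
      refine ⟨g⁻¹ * x * g, ?_, ?_⟩
      · rw [SetLike.mem_coe, mem_centralizer_singleton_iff]
        calc g⁻¹ * x * g * J = g⁻¹ * (x * (g * J * g⁻¹)) * g := by group
          _ = g⁻¹ * ((g * J * g⁻¹) * x) * g := by rw [hg, hx]
          _ = _ := by group
      · show g * (g⁻¹ * x * g) * g⁻¹ = x
        group
    · rintro ⟨c, hc, rfl⟩
      rw [SetLike.mem_coe, mem_centralizer_singleton_iff] at hc
      rw [mem_centralizer_singleton_iff]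
      show g * c * g⁻¹ * s = s * (g * c * g⁻¹)
      rw [← hg]
      calc g * c * g⁻¹ * (g * J * g⁻¹) = g * (c * J) * g⁻¹ := by group
        _ = g * (J * c) * g⁻¹ := by rw [hc]
        _ = _ := by group
  rw [h1, Subgroup.card_map_of_injective (MulAut.conj g).injective, H.cardC]

theorem Syl4.inv_mem {s : G} (hs : s ∈ normalizer ((P : Subgroup G) : Set G)) (hss : s * s = 1) : s ∈ (P : Subgroup G) := by
  haveI : Fact (Nat.Prime 2) := ⟨Nat.prime_two⟩
  have h1 : IsPGroup 2 (zpowers s) := by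
    rw [IsPGroup.iff_card]
    rcases eq_or_ne s 1 with h | h
    · exact ⟨0, by rw [Nat.card_zpowers, h, orderOf_one, pow_zero]⟩
    · exact ⟨1, by rw [Nat.card_zpowers, pow_one]; exact orderOf_eq_prime (by rw [pow_two]; exact hss) h⟩
  have h2 : zpowers s ≤ normalizer ((P : Subgroup G) : Set G) := by rw [zpowers_le]; exact hs
  have h3 : IsPGroup 2 ↥((zpowers s) ⊔ (P : Subgroup G) : Subgroup G) := IsPGroup.to_sup_of_normal_right' h1 P.isPGroup' h2
  have h4 := P.is_maximal' h3 le_sup_right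
  rw [← h4]
  exact (le_sup_left : zpowers s ≤ _) (mem_zpowers s)

theorem Syl4.cent_P {c : G} (hc : ∀ x ∈ (P : Subgroup G), c * x = x * c) : c ∈ (P : Subgroup G) := by
  have X := H.H.X
  have hcJ := hc J H.H.JP
  rw [H.charJ]
  refine ⟨hcJ, ?_⟩
  obtain ⟨v, hv, hv2, hvc⟩ := H.cen
  have hvP : v ∈ (P : Subgroup G) := by
    rw [H.charJ]
    refine ⟨X.comm v hv, ?_⟩
    have := pow_orderOf_eq_one v
    rwa [hv2, pow_two] at this
  have hcv := hc v hvP
  rcases X.cent c hcJ with h | h
  · exact hvc c h hcv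
  · have h1 := hvc _ h (by rw [mul_assoc, ← X.comm v hv, ← mul_assoc, hcv, mul_assoc])
    calc c * c = (c * c) * (J * J) := by rw [X.sq, mul_one]
      _ = c * (c * J) * J := by group
      _ = c * (J * c) * J := by rw [hcJ]
      _ = c * J * (c * J) := by group
      _ = 1 := h1

theorem Syl4.ne_top (hns : ¬ Group.IsSolvable G) : normalizer ((P : Subgroup G) : Set G) ≠ ⊤ := by
  intro htop
  apply hns
  haveI hN : (P : Subgroup G).Normal := by
    refine ⟨fun x hx g => ?_⟩
    have : g ∈ normalizer ((P : Subgroup G) : Set G) := by rw [htop]; trivial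
    exact (mem_normalizer_iff.1 this x).1 hx
  have hcard : Nat.card G = 168 := by
    rw [← H.cardN, htop, Subgroup.card_top]
  have h1 := card_eq_card_quotient_mul_card_subgroup (P : Subgroup G)
  have h8 : Nat.card (P : Subgroup G) = 8 := H.H.card
  rw [hcard, h8] at h1
  have h2 : Nat.card (G ⧸ (P : Subgroup G)) = 21 := by omega
  have h3 : Group.IsSolvable (G ⧸ (P : Subgroup G)) := H4.Burnside.isSolvable_of_card_eq 3 7 (by norm_num) (by norm_num) 21 _ h2 ⟨1, 1, by norm_num⟩
  haveI := h3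
  haveI : Group.IsSolvable ↥(P : Subgroup G) := Group.isSolvable_of_comm (fun a b => Subtype.ext (H.H.comm a a.2 b b.2))
  exact Group.isSolvable_of_ker_le_range (P : Subgroup G).subtype (QuotientGroup.mk' (P : Subgroup G)) (by
    rw [QuotientGroup.ker_mk', Subgroup.range_subtype])

theorem Syl4.strong (hns : ¬ Group.IsSolvable G) : IsStronglyEmbedded (normalizer ((P : Subgroup G) : Set G)) := by
  refine ⟨H.ne_top hns, by rw [H.cardN]; decide, ?_⟩
  intro g hg
  rw [← Nat.not_even_iff_odd]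
  intro he
  apply hg
  haveI : Fact (Nat.Prime 2) := ⟨Nat.prime_two⟩
  obtain ⟨z, hz⟩ := exists_prime_orderOf_dvd_card' (G := ↥(normalizer ((P : Subgroup G) : Set G) ⊓ (normalizer ((P : Subgroup G) : Set G)).map (MulAut.conj g).toMonoidHom)) 2 he.two_dvd
  have hz2 : orderOf (z : G) = 2 := by rw [Subgroup.orderOf_coe]; exact hz
  obtain ⟨hz1, y, hy, hyz⟩ := z.2
  have hyz : g * y * g⁻¹ = z := hyz
  clear hz
  generalize (z : G) = z at hz1 hyz hz2
  have hzz : z * z = 1 := by
    have := pow_orderOf_eq_one z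
    rwa [hz2, pow_two] at this
  have hz0 : z ≠ 1 := by rintro rfl; rw [orderOf_one] at hz2; omega
  have hyy : y * y = 1 := by
    calc y * y = g⁻¹ * ((g * y * g⁻¹) * (g * y * g⁻¹)) * g := by group
      _ = 1 := by rw [hyz, hzz]; group
  have hy0 : y ≠ 1 := by
    rintro rfl
    apply hz0
    rw [← hyz]; group
  exact H.mem_norm (H.inv_mem hy hyy) hy0 (by rw [hyz]; exact H.inv_mem hz1 hzz)

end

end H92.JA
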