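import Mathlib
import Cfsg.Prelude.Def_Involutions
import Cfsg.Agent.Lib.H92.JA5
import Cfsg.Agent.Lib.H25.StrEmb

/-!
Centralizer of a 2-central involution equal to `⟨J⟩ × A_4`: elements of order seven.
-/

set_option autoImplicit false
set_option linter.unusedSectionVars false
set_option linter.unusedVariables false
set_option linter.style.haveILetI false
open Cfsg

namespace H92.JA
open Subgroup H25.StrEmb

variable {G : Type*} [Group G]

theorem zpowers_eq_of_prime [Finite G] {p : ℕ} [Fact p.Prime] {r s : G} (hr : orderOf r = p) (hs : orderOf s = p) {z : G}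
    (hzr : z ∈ zpowers r) (hzs : z ∈ zpowers s) (hz : z ≠ 1) : zpowers r = zpowers s := by
  have key : ∀ r : G, orderOf r = p → z ∈ zpowers r → zpowers z = zpowers r := by
    intro r hr hzr
    have h1 : zpowers z ≤ zpowers r := by rw [zpowers_le]; exact hzr
    apply Subgroup.eq_of_le_of_card_ge h1
    rw [Nat.card_zpowers, Nat.card_zpowers]
    have h2 : orderOf z ∣ orderOf r := by
      have := card_dvd_of_le h1
      rwa [Nat.card_zpowers, Nat.card_zpowers] at this
    rw [hr] at h2 ⊢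
    rcases (Nat.dvd_prime (Fact.out : p.Prime)).1 h2 with h | h
    · exact absurd (orderOf_eq_one_iff.1 h) hz
    · exact h.ge
  rw [← key r hr hzr, key s hs hzs]

/-- two subgroups of order `7` in a group of order less than `49` agree -/
theorem zpowers_eq_of_card [Finite G] {D : Subgroup G} (hD : Nat.card D < 49) {r s : G} (hr : orderOf r = 7) (hs : orderOf s = 7)
    (hrD : r ∈ D) (hsD : s ∈ D) : zpowers r = zpowers s := by
  haveI : Fact (Nat.Prime 7) := ⟨by norm_num⟩
  by_contra hne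
  have hbot : Disjoint (zpowers r) (zpowers s) := by
    rw [disjoint_def]
    intro z hz hz'
    by_contra h1
    exact hne (zpowers_eq_of_prime hr hs hz hz' h1)
  have hinj := mul_injective_of_disjoint hbot
  let f : ↥(zpowers r) × ↥(zpowers s) → ↥D := fun a => ⟨(a.1 : G) * a.2, D.mul_mem ((zpowers_le.2 hrD) a.1.2) ((zpowers_le.2 hsD) a.2.2)⟩
  have hf : Function.Injective f := by
    intro a b hab
    exact hinj (congrArg Subtype.val hab)
  have h1 := Nat.card_le_card_of_injective f hf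
  rw [Nat.card_prod, Nat.card_zpowers, Nat.card_zpowers, hr, hs] at h1
  omega

section
variable [Finite G] {J : G} {T : Subgroup G} {P : Sylow 2 G} (H : Syl4 J T P) (hns : ¬ Group.IsSolvable G)
include H hns

theorem Syl4.D_card {u : G} (hu : orderOf u = 2) (huN : u ∉ normalizer ((P : Subgroup G) : Set G)) :
    Nat.card ↥(normalizer ((P : Subgroup G) : Set G) ⊓ (normalizer ((P : Subgroup G) : Set G)).map (MulAut.conj u).toMonoidHom) = 7 ∨
    Nat.card ↥(normalizer ((P : Subgroup G) : Set G) ⊓ (normalizer ((P : Subgroup G) : Set G)).map (MulAut.conj u).toMonoidHom) = 21 := by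
  set N := normalizer ((P : Subgroup G) : Set G) with hN
  set D := N ⊓ N.map (MulAut.conj u).toMonoidHom with hD
  have hst := H.strong hns
  have hPN : (P : Subgroup G) ≤ N := le_normalizer
  have h1 := card_orbit D (((P : Subgroup G) : Set G) \ {1}) J (by
    intro n hn
    refine ⟨(mem_normalizer_iff.1 hn.1 J).1 H.H.JP, ?_⟩
    intro h
    apply H.H.X.ne
    have : J = n⁻¹ * (n * J * n⁻¹) * n := by group
    rw [this, Set.mem_singleton_iff.1 h]; group) (fun y hy =>
      exists_conj_of_mem hst hu huN H.H.X.ord (hPN H.H.JP) (H.H.ord hy.1 hy.2) (hPN hy.1))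
  have h2 : Nat.card (P : Subgroup G) = 8 := H.H.card
  have h3 := Set.ncard_sdiff_singleton_add_one (a := (1 : G)) (s := ((P : Subgroup G) : Set G)) (one_mem (P : Subgroup G)) (Set.toFinite _)
  have h4 : ((P : Subgroup G) : Set G).ncard = 8 := h2
  have h5 : (((P : Subgroup G) : Set G) \ {1}).ncard = 7 := by omega
  rw [h5] at h1
  have h6 : Nat.card ↥D ∣ 168 := by
    rw [← H.cardN]; exact card_dvd_of_le inf_le_left
  have h7 : Odd (Nat.card ↥D) := hst.2.2 u huN
  have h8 : Nat.card ↥D ∣ 21 := by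
    have h9 : (Nat.card ↥D).Coprime 8 := by
      have : (8 : ℕ) = 2 ^ 3 := by norm_num
      rw [this]
      exact Nat.Coprime.pow_right 3 ((Nat.coprime_two_right).2 h7)
    exact h9.dvd_of_dvd_mul_left (by norm_num; exact h6)
  obtain ⟨k, hk⟩ := h8
  rw [h1] at hk ⊢
  generalize Nat.card ↥(D ⊓ centralizer ({J} : Set G)) = c at *
  have hck : c * k = 3 := by
    have : 7 * c * k = 7 * (c * k) := by ring
    omega
  have hc3 : c ∣ 3 := ⟨k, hck.symm⟩
  rcases (Nat.dvd_prime (by norm_num : Nat.Prime 3)).1 hc3 with h | h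
  · left; omega
  · right; omega

omit hns in
theorem Syl4.not_comm {s r : G} (hs : orderOf s = 2) (hr : orderOf r = 7) (h : r * s = s * r) : False := by
  have h1 : r ∈ centralizer ({s} : Set G) := mem_centralizer_singleton_iff.2 h
  have h2 := Subgroup.orderOf_dvd_natCard _ h1
  rw [H.card_inv hs, hr] at h2
  norm_num at h2

theorem Syl4.inverts {u r : G} (hu : orderOf u = 2) (huN : u ∉ normalizer ((P : Subgroup G) : Set G)) (hr : orderOf r = 7)
    (hrN : r ∈ normalizer ((P : Subgroup G) : Set G)) (hrN' : u⁻¹ * r * u ∈ normalizer ((P : Subgroup G) : Set G)) :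
    u * r * u⁻¹ = r⁻¹ := by
  have huu : u * u = 1 := by
    have := pow_orderOf_eq_one u
    rwa [hu, pow_two] at this
  have hui : u⁻¹ = u := inv_eq_of_mul_eq_one_right huu
  have hrD : r ∈ normalizer ((P : Subgroup G) : Set G) ⊓ (normalizer ((P : Subgroup G) : Set G)).map (MulAut.conj u).toMonoidHom :=
    ⟨hrN, mem_map_conj.2 hrN'⟩
  have hr2 : orderOf (u * r * u⁻¹) = 7 := by
    have := MulEquiv.orderOf_eq (MulAut.conj u) r
    rw [MulAut.conj_apply] at this
    rw [this, hr]
  have hrD' : u * r * u⁻¹ ∈ normalizer ((P : Subgroup G) : Set G) ⊓ (normalizer ((P : Subgroup G) : Set G)).map (MulAut.conj u).toMonoidHom := by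
    refine ⟨?_, mem_map_conj.2 ?_⟩
    · rw [hui] at hrN' ⊢; exact hrN'
    · have : u⁻¹ * (u * r * u⁻¹) * u = r := by group
      rw [this]; exact hrN
  have h1 : zpowers r = zpowers (u * r * u⁻¹) := by
    refine zpowers_eq_of_card ?_ hr hr2 hrD hrD'
    rcases H.D_card hns hu huN with h | h <;> rw [h] <;> norm_num
  have h2 : u * r * u⁻¹ ∈ zpowers r := by rw [h1]; exact mem_zpowers _
  obtain ⟨k, hk⟩ := mem_zpowers_iff.1 h2
  have h3 : r ^ (k * k) = r := by
    have e1 : u * r ^ k * u⁻¹ = r ^ (k * k) := by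
      calc u * r ^ k * u⁻¹ = (u * r * u⁻¹) ^ k := (conj_zpow).symm
        _ = (r ^ k) ^ k := by rw [hk]
        _ = r ^ (k * k) := (zpow_mul r k k).symm
    rw [← e1, hk]
    calc u * (u * r * u⁻¹) * u⁻¹ = (u * u) * r * (u * u)⁻¹ := by group
      _ = r := by rw [huu]; group
  have h4 : r ^ (k * k - 1) = 1 := by
    rw [zpow_sub, zpow_one, h3, mul_inv_cancel]
  rw [← orderOf_dvd_iff_zpow_eq_one, hr] at h4
  have h5 : (7 : ℤ) ∣ (k - 1) * (k + 1) := by
    have : (k - 1) * (k + 1) = k * k - 1 := by ring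
    rw [this]; exact h4
  have h6 : Prime (7 : ℤ) := Nat.prime_iff_prime_int.1 (by norm_num : Nat.Prime 7)
  rcases h6.dvd_or_dvd h5 with h | h
  · exfalso
    have h7 : r ^ (k - 1) = 1 := orderOf_dvd_iff_zpow_eq_one.1 (by rw [hr]; exact h)
    rw [zpow_sub, zpow_one, mul_inv_eq_one, hk, mul_inv_eq_iff_eq_mul] at h7
    exact H.not_comm hu hr h7.symm
  · have h7 : r ^ (k + 1) = 1 := orderOf_dvd_iff_zpow_eq_one.1 (by rw [hr]; exact h)
    rw [zpow_add, zpow_one, hk] at h7
    exact eq_inv_of_mul_eq_one_left h7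

theorem Syl4.exists_inv : ∃ u : G, orderOf u = 2 ∧ u ∉ normalizer ((P : Subgroup G) : Set G) := by
  have h1 := H.ne_top hns
  obtain ⟨g, hg⟩ : ∃ g, g ∉ normalizer ((P : Subgroup G) : Set G) := by
    by_contra hcon
    push Not at hcon
    exact h1 (eq_top_iff.2 fun g _ => hcon g)
  have h2 : orderOf (g * J * g⁻¹) = 2 := by
    have := MulEquiv.orderOf_eq (MulAut.conj g) J
    rw [MulAut.conj_apply] at this
    rw [this, H.H.X.ord]
  refine ⟨g * J * g⁻¹, h2, fun h => hg ?_⟩
  have h3 : g * J * g⁻¹ * (g * J * g⁻¹) = 1 := by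
    have := pow_orderOf_eq_one (g * J * g⁻¹)
    rwa [h2, pow_two] at this
  exact H.mem_norm H.H.JP H.H.X.ne (H.inv_mem h h3)

theorem Syl4.exists_seven {u : G} (hu : orderOf u = 2) (huN : u ∉ normalizer ((P : Subgroup G) : Set G)) :
    ∃ r : G, orderOf r = 7 ∧ r ∈ normalizer ((P : Subgroup G) : Set G) ∧ u⁻¹ * r * u ∈ normalizer ((P : Subgroup G) : Set G) := by
  haveI : Fact (Nat.Prime 7) := ⟨by norm_num⟩
  have h1 : 7 ∣ Nat.card ↥(normalizer ((P : Subgroup G) : Set G) ⊓ (normalizer ((P : Subgroup G) : Set G)).map (MulAut.conj u).toMonoidHom) := by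
    rcases H.D_card hns hu huN with h | h <;> rw [h]; norm_num
  obtain ⟨r, hr⟩ := exists_prime_orderOf_dvd_card' 7 h1
  refine ⟨r, by rw [Subgroup.orderOf_coe]; exact hr, r.2.1, mem_map_conj.1 r.2.2⟩

omit hns in
/-- the normalizer in `N(P)` of a subgroup of order seven -/
theorem Syl4.cardR {r : G} (hr : orderOf r = 7) (hrN : r ∈ normalizer ((P : Subgroup G) : Set G)) :
    Nat.card ↥(normalizer ((P : Subgroup G) : Set G) ⊓ normalizer ((zpowers r : Subgroup G) : Set G)) = 21 ∧
    ∀ s : G, orderOf s = 7 → s ∈ normalizer ((P : Subgroup G) : Set G) →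
      ∃ n ∈ normalizer ((P : Subgroup G) : Set G), n * r * n⁻¹ ∈ zpowers s := by
  haveI : Fact (Nat.Prime 7) := ⟨by norm_num⟩
  set N := normalizer ((P : Subgroup G) : Set G) with hN
  have hf : (Nat.card ↥N).factorization 7 = 1 := by
    rw [H.cardN]
    rw [show (168 : ℕ) = 7 * 24 by norm_num, Nat.factorization_mul (by norm_num) (by norm_num)]
    rw [Finsupp.add_apply, Nat.Prime.factorization_self (by norm_num), Nat.factorization_eq_zero_of_not_dvd (by norm_num)]
  have hz : ∀ s : G, ∀ h : s ∈ N, orderOf s = 7 → Nat.card ↥(zpowers (⟨s, h⟩ : ↥N)) = 7 ^ (Nat.card ↥N).factorization 7 := by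
    intro s h hs
    rw [Nat.card_zpowers, Subgroup.orderOf_mk, hs, hf, pow_one]
  let Q : Sylow 7 ↥N := Sylow.ofCard (zpowers (⟨r, hrN⟩ : ↥N)) (hz r hrN hr)
  have hQ : (Q : Subgroup ↥N) = zpowers (⟨r, hrN⟩ : ↥N) := rfl
  have hQ7 : Nat.card (Q : Subgroup ↥N) = 7 := by
    rw [hQ, Nat.card_zpowers, Subgroup.orderOf_mk, hr]
  have h1 : Nat.card (Sylow 7 ↥N) ≡ 1 [MOD 7] := card_sylow_modEq_one 7 ↥N
  have h2 : Nat.card (Sylow 7 ↥N) = (normalizer ((Q : Subgroup ↥N) : Set ↥N)).index := Q.card_eq_index_normalizer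
  have h3 := card_mul_index (normalizer ((Q : Subgroup ↥N) : Set ↥N))
  have h4 : Nat.card (Q : Subgroup ↥N) ∣ Nat.card (normalizer ((Q : Subgroup ↥N) : Set ↥N)) := card_dvd_of_le le_normalizer
  rw [hQ7] at h4
  rw [← h2, H.cardN] at h3
  have hn1 : Nat.card (Sylow 7 ↥N) ≠ 1 := by
    intro hone
    rw [h2] at hone
    have h5 : normalizer ((Q : Subgroup ↥N) : Set ↥N) = ⊤ := index_eq_one.1 hone
    have h6 : r ∈ (P : Subgroup G) := by
      apply H.cent_P
      intro x hx
      have hxN : x ∈ N := le_normalizer hx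
      have h7 : (⟨x, hxN⟩ : ↥N) ∈ normalizer ((Q : Subgroup ↥N) : Set ↥N) := by rw [h5]; trivial
      have h8 := (mem_normalizer_iff.1 h7 ⟨r, hrN⟩).1 (by rw [hQ]; exact mem_zpowers _)
      rw [hQ] at h8
      obtain ⟨k, hk⟩ := mem_zpowers_iff.1 h8
      have hk' : r ^ k = x * r * x⁻¹ := congrArg Subtype.val hk
      -- the commutator lies in both
      have h9 : r⁻¹ * (x * r * x⁻¹) ∈ (P : Subgroup G) := by
        have h10 := (mem_normalizer_iff.1 (Subgroup.inv_mem _ hrN) x).1 hx
        rw [inv_inv] at h10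
        have := (P : Subgroup G).mul_mem h10 ((P : Subgroup G).inv_mem hx)
        have e : r⁻¹ * x * r * x⁻¹ = r⁻¹ * (x * r * x⁻¹) := by group
        rwa [e] at this
      have h10 : r⁻¹ * (x * r * x⁻¹) = 1 := by
        have h11 : r⁻¹ * (x * r * x⁻¹) ∈ zpowers r := by
          rw [← hk']
          exact (zpowers r).mul_mem ((zpowers r).inv_mem (mem_zpowers r)) (zpow_mem (mem_zpowers r) k)
        have h12 := H.H.sq _ h9
        rw [← pow_two] at h12
        have h13 := orderOf_dvd_of_pow_eq_one h12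
        have h14 : orderOf (r⁻¹ * (x * r * x⁻¹)) ∣ 7 := by
          rw [← hr, ← Nat.card_zpowers r]
          exact Subgroup.orderOf_dvd_natCard _ h11
        have h15 := Nat.dvd_gcd h13 h14
        norm_num at h15
        exact h15
      have h11 : x * r * x⁻¹ = r := by
        have := eq_inv_of_mul_eq_one_right h10
        rwa [inv_inv] at this
      rw [mul_inv_eq_iff_eq_mul] at h11
      exact h11.symm
    have h7 := H.H.sq r h6
    rw [← pow_two] at h7
    have h8 := orderOf_dvd_of_pow_eq_one h7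
    rw [hr] at h8
    norm_num at h8
  have hcardQ : Nat.card (normalizer ((Q : Subgroup ↥N) : Set ↥N)) = 21 := by
    obtain ⟨c, hc⟩ := h4
    rw [hc] at h3 ⊢
    have h5 : c * Nat.card (Sylow 7 ↥N) = 24 := by
      have : 7 * c * Nat.card (Sylow 7 ↥N) = 7 * (c * Nat.card (Sylow 7 ↥N)) := by ring
      omega
    have h6 : Nat.card (Sylow 7 ↥N) ≤ 24 := Nat.le_of_dvd (by norm_num) ⟨c, by rw [mul_comm]; exact h5.symm⟩
    have h7 : Nat.card (Sylow 7 ↥N) % 7 = 1 := h1
    have h8 : Nat.card (Sylow 7 ↥N) = 8 ∨ Nat.card (Sylow 7 ↥N) = 15 ∨ Nat.card (Sylow 7 ↥N) = 22 := by omega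
    rcases h8 with h | h | h <;> rw [h] at h5 <;> omega
  refine ⟨?_, ?_⟩
  · have h5 : normalizer ((Q : Subgroup ↥N) : Set ↥N) = (N ⊓ normalizer ((zpowers r : Subgroup G) : Set G)).subgroupOf N := by
      ext n
      rw [mem_subgroupOf]
      have key : ∀ x : ↥N, x ∈ (Q : Subgroup ↥N) ↔ (x : G) ∈ zpowers r := by
        intro x
        rw [hQ]
        constructor
        · intro hx
          obtain ⟨k, hk⟩ := mem_zpowers_iff.1 hx
          exact mem_zpowers_iff.2 ⟨k, congrArg Subtype.val hk⟩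
        · intro hx
          obtain ⟨k, hk⟩ := mem_zpowers_iff.1 hx
          exact mem_zpowers_iff.2 ⟨k, Subtype.ext hk⟩
      constructor
      · intro hn
        rw [mem_normalizer_iff] at hn
        refine Subgroup.mem_inf.2 ⟨n.2, ?_⟩
        rw [mem_normalizer_iff]
        intro x
        constructor
        · intro hx
          have hxN : x ∈ N := (zpowers_le.2 hrN) hx
          exact (key _).1 ((hn ⟨x, hxN⟩).1 ((key _).2 hx))
        · intro hx
          have hxN' : (n : G) * x * (n : G)⁻¹ ∈ N := (zpowers_le.2 hrN) hx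
          have hxN : x ∈ N := by
            have := N.mul_mem (N.mul_mem (N.inv_mem n.2) hxN') n.2
            have e : (n : G)⁻¹ * ((n : G) * x * (n : G)⁻¹) * n = x := by group
            rwa [e] at this
          exact (key _).1 ((hn ⟨x, hxN⟩).2 ((key _).2 hx))
      · intro hn
        rw [mem_normalizer_iff]
        intro x
        rw [key, key]
        exact mem_normalizer_iff.1 hn.2 x
    rw [← Nat.card_congr (subgroupOfEquivOfLe (H := N ⊓ normalizer ((zpowers r : Subgroup G) : Set G)) (K := N) inf_le_left).toEquiv, ← h5, hcardQ]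
  · intro s hs hsN
    let Q' : Sylow 7 ↥N := Sylow.ofCard (zpowers (⟨s, hsN⟩ : ↥N)) (hz s hsN hs)
    obtain ⟨n, hn⟩ := MulAction.exists_smul_eq ↥N Q Q'
    refine ⟨n, n.2, ?_⟩
    have h5 : (⟨r, hrN⟩ : ↥N) ∈ (Q : Subgroup ↥N) := mem_zpowers _
    have h6 : n * ⟨r, hrN⟩ * n⁻¹ ∈ (Q' : Subgroup ↥N) := by
      rw [← hn, Sylow.coe_subgroup_smul, Subgroup.mem_pointwise_smul_iff_inv_smul_mem, ← map_inv, MulAut.smul_def, MulAut.conj_apply, inv_inv]
      have e : n⁻¹ * (n * ⟨r, hrN⟩ * n⁻¹) * n = ⟨r, hrN⟩ := by group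
      rw [e]; exact h5
    have h7 : n * ⟨r, hrN⟩ * n⁻¹ ∈ zpowers (⟨s, hsN⟩ : ↥N) := h6
    obtain ⟨k, hk⟩ := mem_zpowers_iff.1 h7
    exact mem_zpowers_iff.2 ⟨k, congrArg Subtype.val hk⟩

end

end H92.JA
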