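import Mathlib
import Cfsg.Prelude.Def_Involutions
import Cfsg.Prelude.Def_LieRecognition
import Cfsg.Agent.Lib.H92.JA6

/-!
Centralizer of a 2-central involution equal to `⟨J⟩ × A_4`: the group has order `1512` and acts doubly transitively on 9 points.
-/

set_option autoImplicit false
set_option linter.unusedSectionVars false
set_option linter.unusedVariables false
set_option linter.style.haveILetI false
open Cfsg

namespace H92.JA
open Subgroup H25.StrEmb

variable {G : Type*} [Group G]

section
variable [Finite G] {J : G} {T : Subgroup G} {P : Sylow 2 G} (H : Syl4 J T P)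
include H

/-- no element of order three of `N(P)` commutes with one of order seven -/
theorem Syl4.three_seven {w r : G} (hwN : w ∈ normalizer ((P : Subgroup G) : Set G)) (hw : orderOf w = 3)
    (hrN : r ∈ normalizer ((P : Subgroup G) : Set G)) (hr : orderOf r = 7) (hc : r * w = w * r) : False := by
  haveI : Fact (Nat.Prime 3) := ⟨by norm_num⟩
  letI act : MulAction ↥(zpowers w) ↥(P : Subgroup G) := MulAction.compHom _ (inclusion (zpowers_le.2 hwN) : ↥(zpowers w) →* ↥(normalizer ((P : Subgroup G) : Set G)))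
  have hact : ∀ (g : ↥(zpowers w)) (x : ↥(P : Subgroup G)), ((g • x : ↥(P : Subgroup G)) : G) = (g : G) * x * (g : G)⁻¹ := fun g x => rfl
  have h3 : IsPGroup 3 ↥(zpowers w) := by
    rw [IsPGroup.iff_card]
    exact ⟨1, by rw [Nat.card_zpowers, hw, pow_one]⟩
  have h1 := h3.card_modEq_card_fixedPoints ↥(P : Subgroup G)
  have h8 : Nat.card ↥(P : Subgroup G) = 8 := H.H.card
  let e : MulAction.fixedPoints ↥(zpowers w) ↥(P : Subgroup G) ≃ ↥((P : Subgroup G) ⊓ centralizer ({w} : Set G)) :=
    { toFun := fun x => ⟨(x : ↥(P : Subgroup G)), x.1.2, mem_centralizer_singleton_iff.2 (by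
        have := congrArg Subtype.val (x.2 ⟨w, mem_zpowers w⟩)
        rw [hact, mul_inv_eq_iff_eq_mul] at this
        exact this.symm)⟩
      invFun := fun x => ⟨⟨x, x.2.1⟩, by
        intro g
        apply Subtype.ext
        rw [hact, mul_inv_eq_iff_eq_mul]
        obtain ⟨k, hk⟩ := mem_zpowers_iff.1 g.2
        have h2 : Commute (x : G) w := mem_centralizer_singleton_iff.1 x.2.2
        rw [← hk]
        exact (h2.zpow_right k).eq.symm⟩
      left_inv := fun x => rfl
      right_inv := fun x => rfl }
  rw [h8, Nat.card_congr e] at h1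
  have h2 : Nat.card ↥((P : Subgroup G) ⊓ centralizer ({w} : Set G)) ∣ 8 := by
    rw [← h8]; exact card_dvd_of_le inf_le_left
  have h4 : 8 % 3 = Nat.card ↥((P : Subgroup G) ⊓ centralizer ({w} : Set G)) % 3 := h1
  have h5 : Nat.card ↥((P : Subgroup G) ⊓ centralizer ({w} : Set G)) ≤ 8 := Nat.le_of_dvd (by norm_num) h2
  have h6 : Nat.card ↥((P : Subgroup G) ⊓ centralizer ({w} : Set G)) = 2 ∨ Nat.card ↥((P : Subgroup G) ⊓ centralizer ({w} : Set G)) = 8 := by
    generalize Nat.card ↥((P : Subgroup G) ⊓ centralizer ({w} : Set G)) = c at *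
    have : c = 2 ∨ c = 5 ∨ c = 8 := by omega
    rcases this with h | h | h
    · exact Or.inl h
    · rw [h] at h2; norm_num at h2
    · exact Or.inr h
  rcases h6 with h6 | h6
  · -- a unique involution
    obtain ⟨z, hz⟩ := exists_prime_orderOf_dvd_card' (G := ↥((P : Subgroup G) ⊓ centralizer ({w} : Set G))) 2 (by rw [h6])
    have hz2 : orderOf (z : G) = 2 := by rw [Subgroup.orderOf_coe]; exact hz
    have huniq : ∀ y ∈ (P : Subgroup G) ⊓ centralizer ({w} : Set G), y ≠ 1 → y = z := by
      intro y hy hy1
      by_contra hyz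
      have hz1 : (z : G) ≠ 1 := by
        intro h
        rw [h, orderOf_one] at hz2; omega
      have h7 : ({1, y, (z : G)} : Set G) ⊆ (((P : Subgroup G) ⊓ centralizer ({w} : Set G) : Subgroup G) : Set G) := by
        rintro a (rfl | rfl | rfl)
        · exact one_mem _
        · exact hy
        · exact z.2
      have h9 := Set.ncard_le_ncard h7 (Set.toFinite _)
      have h10 : (((P : Subgroup G) ⊓ centralizer ({w} : Set G) : Subgroup G) : Set G).ncard = 2 := h6
      rw [Set.ncard_insert_of_notMem (by simp [hy1.symm, hz1.symm]) (Set.toFinite _), Set.ncard_pair hyz, h10] at h9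
      omega
    have h7 : r * z * r⁻¹ = z := by
      apply huniq
      · refine Subgroup.mem_inf.2 ⟨(mem_normalizer_iff.1 hrN _).1 z.2.1, mem_centralizer_singleton_iff.2 ?_⟩
        have h8 : (z : G) * w = w * z := mem_centralizer_singleton_iff.1 z.2.2
        have h9 : Commute r w := hc
        have h10 : Commute (z : G) w := h8
        exact ((h9.mul_left h10).mul_left h9.inv_left).eq
      · intro h
        have : (z : G) = r⁻¹ * (r * z * r⁻¹) * r := by group
        rw [h] at this
        have h9 : (z : G) = 1 := by rw [this]; group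
        rw [h9, orderOf_one] at hz2; omega
    rw [mul_inv_eq_iff_eq_mul] at h7
    exact H.not_comm hz2 hr h7
  · have h7 : (P : Subgroup G) ⊓ centralizer ({w} : Set G) = (P : Subgroup G) := Subgroup.eq_of_le_of_card_ge inf_le_left (by rw [h6, h8])
    have h9 : w ∈ (P : Subgroup G) := by
      apply H.cent_P
      intro x hx
      rw [← h7] at hx
      exact (mem_centralizer_singleton_iff.1 hx.2).symm
    have h10 := H.H.sq w h9
    rw [← pow_two] at h10
    have h11 := orderOf_dvd_of_pow_eq_one h10
    rw [hw] at h11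
    norm_num at h11

theorem Syl4.six {u r : G} (hr : orderOf r = 7) (hrN : r ∈ normalizer ((P : Subgroup G) : Set G)) (hu : orderOf u = 2)
    (hi : u * r * u⁻¹ = r⁻¹) :
    6 * Nat.card (centralizer ({r} : Set G)) ≤ Nat.card (normalizer ((zpowers r : Subgroup G) : Set G)) := by
  haveI : Fact (Nat.Prime 3) := ⟨by norm_num⟩
  have h21 := (H.cardR hr hrN).1
  obtain ⟨w, hw⟩ := exists_prime_orderOf_dvd_card' (G := ↥(normalizer ((P : Subgroup G) : Set G) ⊓ normalizer ((zpowers r : Subgroup G) : Set G))) 3 (by rw [h21]; norm_num)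
  have hw3 : orderOf (w : G) = 3 := by rw [Subgroup.orderOf_coe]; exact hw
  let φ := (zpowers r).normalizerMonoidHom
  have hmemR : ∀ g : G, g * r * g⁻¹ ∈ zpowers r → g ∈ normalizer ((zpowers r : Subgroup G) : Set G) := by
    intro g hg
    rw [mem_normalizer_iff_map_conj_eq]
    apply Subgroup.eq_of_le_of_card_ge
    · rintro _ ⟨x, hx, rfl⟩
      obtain ⟨k, rfl⟩ := mem_zpowers_iff.1 hx
      rw [map_zpow]
      exact (zpowers r).zpow_mem hg k
    · rw [Subgroup.card_map_of_injective (MulAut.conj g).injective]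
  have huR : u ∈ normalizer ((zpowers r : Subgroup G) : Set G) := by
    apply hmemR
    rw [hi]
    exact (zpowers r).inv_mem (mem_zpowers r)
  have hker : ∀ g : ↥(normalizer ((zpowers r : Subgroup G) : Set G)), φ g = 1 → (g : G) * r = r * g := by
    intro g hg
    have h1 := congrArg Subtype.val (DFunLike.congr_fun hg ⟨r, mem_zpowers r⟩)
    have h2 : (g : G) * r * (g : G)⁻¹ = r := h1
    rwa [mul_inv_eq_iff_eq_mul] at h2
  have hr2 : r ≠ r⁻¹ := by
    intro h
    have h1 : r ^ 2 = 1 := by
      rw [pow_two]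
      nth_rewrite 2 [h]
      exact mul_inv_cancel r
    have h2 := orderOf_dvd_of_pow_eq_one h1
    rw [hr] at h2
    norm_num at h2
  have h2 : 2 ∣ Nat.card φ.range := by
    have h3 : orderOf (φ ⟨u, huR⟩) = 2 := by
      apply orderOf_eq_prime
      · rw [← map_pow]
        have : (⟨u, huR⟩ : ↥(normalizer ((zpowers r : Subgroup G) : Set G))) ^ 2 = 1 := Subtype.ext (by
          have := pow_orderOf_eq_one u
          rwa [hu] at this)
        rw [this, map_one]
      · intro h
        have h4 := hker _ h
        apply hr2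
        rw [← hi]
        show r = u * r * u⁻¹
        have h4 : u * r = r * u := h4
        rw [h4, mul_inv_cancel_right]
    have h4 := Subgroup.orderOf_dvd_natCard φ.range (MonoidHom.mem_range.2 ⟨⟨u, huR⟩, rfl⟩ : φ ⟨u, huR⟩ ∈ φ.range)
    rwa [h3] at h4
  have h3 : 3 ∣ Nat.card φ.range := by
    have h3 : orderOf (φ ⟨w, w.2.2⟩) = 3 := by
      apply orderOf_eq_prime
      · rw [← map_pow]
        have : (⟨w, w.2.2⟩ : ↥(normalizer ((zpowers r : Subgroup G) : Set G))) ^ 3 = 1 := Subtype.ext (by
          have := pow_orderOf_eq_one (w : G)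
          rwa [hw3] at this)
        rw [this, map_one]
      · intro h
        have h4 : (w : G) * r = r * w := hker _ h
        exact H.three_seven w.2.1 hw3 hrN hr h4.symm
    have h4 := Subgroup.orderOf_dvd_natCard φ.range (MonoidHom.mem_range.2 ⟨⟨w, w.2.2⟩, rfl⟩ : φ ⟨w, w.2.2⟩ ∈ φ.range)
    rwa [h3] at h4
  have h6 : 6 ≤ Nat.card φ.range := Nat.le_of_dvd Nat.card_pos (by
    have := Nat.Coprime.mul_dvd_of_dvd_of_dvd (by norm_num : Nat.Coprime 2 3) h2 h3
    exact this)
  have h7 : Nat.card (centralizer ({r} : Set G)) ≤ Nat.card φ.ker := by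
    have hc : ∀ c : ↥(centralizer ({r} : Set G)), (c : G) ∈ normalizer ((zpowers r : Subgroup G) : Set G) := by
      intro c
      apply hmemR
      have := mem_centralizer_singleton_iff.1 c.2
      rw [this, mul_inv_cancel_right]
      exact mem_zpowers r
    refine Nat.card_le_card_of_injective (fun c => (⟨⟨c, hc c⟩, ?_⟩ : φ.ker)) ?_
    · rw [MonoidHom.mem_ker]
      ext x
      show (c : G) * x * (c : G)⁻¹ = x
      obtain ⟨k, hk⟩ := mem_zpowers_iff.1 x.2
      have h2 : Commute (c : G) r := mem_centralizer_singleton_iff.1 c.2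
      rw [← hk, (h2.zpow_right k).eq, mul_inv_cancel_right]
    · intro a b hab
      apply Subtype.ext
      exact congrArg (fun z : φ.ker => ((z : ↥(normalizer ((zpowers r : Subgroup G) : Set G))) : G)) hab
  have h8 := card_mul_index φ.ker
  rw [index_ker] at h8
  rw [← h8, mul_comm 6]
  exact Nat.mul_le_mul h7 h6

end

end H92.JA
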