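import Mathlib
import Cfsg.Prelude.Def_Involutions
import Cfsg.Prelude.Def_LieRecognition
import Cfsg.Agent.Lib.H92.JA7

/-!
Centralizer of a 2-central involution equal to `⟨J⟩ × A_4`: the group has order `1512` and acts doubly transitively on 9 points.
-/

set_option autoImplicit false
set_option linter.unusedSectionVars false
set_option linter.unusedVariables false
set_option linter.style.haveILetI false
open Cfsg

namespace H92.JA
open Subgroup H25.StrEmb

variable {G : Type*} [Group G]

section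
variable [Finite G] {J : G} {T : Subgroup G} {P : Sylow 2 G} (H : Syl4 J T P) (hns : ¬ Group.IsSolvable G)
include H hns

omit hns in
theorem Syl4.seven : Nat.card {t : G // orderOf t = 2 ∧ t ∈ normalizer ((P : Subgroup G) : Set G)} = 7 := by
  have h1 : {t : G | orderOf t = 2 ∧ t ∈ normalizer ((P : Subgroup G) : Set G)} = ((P : Subgroup G) : Set G) \ {1} := by
    ext t
    constructor
    · rintro ⟨h1, h2⟩
      refine ⟨H.inv_mem h2 ?_, ?_⟩
      · have := pow_orderOf_eq_one t
        rwa [h1, pow_two] at this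
      · rintro rfl
        rw [orderOf_one] at h1; omega
    · rintro ⟨h1, h2⟩
      exact ⟨H.H.ord h1 h2, le_normalizer h1⟩
  have h2 : Nat.card (P : Subgroup G) = 8 := H.H.card
  have h3 := Set.ncard_sdiff_singleton_add_one (a := (1 : G)) (s := ((P : Subgroup G) : Set G)) (one_mem (P : Subgroup G)) (Set.toFinite _)
  have h4 : ((P : Subgroup G) : Set G).ncard = 8 := h2
  have h5 : (((P : Subgroup G) : Set G) \ {1}).ncard = 7 := by omega
  rw [← h1] at h5
  exact h5

theorem Syl4.swap7 {x y : G ⧸ normalizer ((P : Subgroup G) : Set G)} (hxy : x ≠ y) :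
    Nat.card {i : G // orderOf i = 2 ∧ i • x = y} = 7 := by
  rw [card_swap (H.strong hns) x y hxy, H.seven]

theorem Syl4.exists_swap {x y : G ⧸ normalizer ((P : Subgroup G) : Set G)} (hxy : x ≠ y) :
    ∃ i : G, orderOf i = 2 ∧ i • x = y := by
  have h1 := H.swap7 hns hxy
  have h2 : 0 < Nat.card {i : G // orderOf i = 2 ∧ i • x = y} := by omega
  obtain ⟨i⟩ := (Nat.card_pos_iff.1 h2).1
  exact ⟨i, i.2⟩

omit hns H [Finite G] in
theorem base_iff {g : G} : g • (QuotientGroup.mk 1 : G ⧸ normalizer ((P : Subgroup G) : Set G)) = QuotientGroup.mk 1 ↔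
    g ∈ normalizer ((P : Subgroup G) : Set G) := by
  rw [smul_mk_eq_iff, inv_one, one_mul, mul_one]

/-- counting: an element of order seven fixes exactly two points -/
theorem Syl4.fix_two {u r : G} (hr : orderOf r = 7) (hrN : r ∈ normalizer ((P : Subgroup G) : Set G)) (hu : orderOf u = 2)
    (hi : u * r * u⁻¹ = r⁻¹) :
    Nat.card {x : G ⧸ normalizer ((P : Subgroup G) : Set G) // r • x = x ∧ x ≠ QuotientGroup.mk 1} ≤ 1 := by
  classical
  set N := normalizer ((P : Subgroup G) : Set G) with hN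
  set x0 : G ⧸ N := QuotientGroup.mk 1 with hx0
  set f := Nat.card {x : G ⧸ N // r • x = x ∧ x ≠ x0} with hf
  haveI : Fintype {x : G ⧸ N // r • x = x ∧ x ≠ x0} := Fintype.ofFinite _
  -- lower bound for the centralizer
  have h1 : f * 7 ≤ Nat.card (centralizer ({r} : Set G)) := by
    have h2 : Nat.card (Σ x : {x : G ⧸ N // r • x = x ∧ x ≠ x0}, {i : G // orderOf i = 2 ∧ i • x0 = (x : G ⧸ N)}) = f * 7 := by
      rw [Nat.card_sigma]
      rw [Finset.sum_congr rfl (fun x _ => H.swap7 hns x.2.2.symm), Finset.sum_const, Finset.card_univ, hf, Nat.card_eq_fintype_card, smul_eq_mul]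
    rw [← h2]
    have hinv : ∀ p : (Σ x : {x : G ⧸ N // r • x = x ∧ x ≠ x0}, {i : G // orderOf i = 2 ∧ i • x0 = (x : G ⧸ N)}),
        (p.2 : G) * r * (p.2 : G)⁻¹ = r⁻¹ := by
      rintro ⟨⟨x, hx, hx'⟩, i, hi2, hix⟩
      have hix : i • x0 = x := hix
      apply H.inverts hns hi2 _ hr hrN
      · rw [← base_iff, mul_smul, mul_smul, ← hx0, hix, hx, ← hix, inv_smul_smul]
      · intro h
        rw [← base_iff, ← hx0, hix] at h
        exact hx' h
    refine Nat.card_le_card_of_injective (fun p => (⟨(p.2 : G) * u, ?_⟩ : ↥(centralizer ({r} : Set G)))) ?_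
    · rw [mem_centralizer_singleton_iff]
      have h3 := hinv p
      have e1 : (p.2 : G) * r⁻¹ * (p.2 : G)⁻¹ = r := by
        calc (p.2 : G) * r⁻¹ * (p.2 : G)⁻¹ = ((p.2 : G) * r * (p.2 : G)⁻¹)⁻¹ := by group
          _ = r := by rw [h3, inv_inv]
      calc (p.2 : G) * u * r = (p.2 : G) * (u * r * u⁻¹) * (p.2 : G)⁻¹ * ((p.2 : G) * u) := by group
        _ = r * ((p.2 : G) * u) := by rw [hi, e1]
    · intro p q hpq
      have h3 : (p.2 : G) * u = q.2 * u := congrArg Subtype.val hpq
      have h4 : (p.2 : G) = q.2 := mul_right_cancel h3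
      obtain ⟨⟨x, hx, hx'⟩, i, hi2, hix⟩ := p
      obtain ⟨⟨y, hy, hy'⟩, j, hj2, hjy⟩ := q
      have h4 : i = j := h4
      subst h4
      have hix : i • x0 = x := hix
      have hjy : i • x0 = y := hjy
      have hxy : x = y := by rw [← hix, hjy]
      subst hxy
      rfl
  -- upper bound for the normalizer
  have h2 := H.six hr hrN hu hi
  set R := normalizer ((zpowers r : Subgroup G) : Set G) with hR
  have h3 : Nat.card R ≤ 21 * (f + 1) := by
    have h4 := MulAction.index_stabilizer ↥R x0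
    have h5 := card_mul_index (MulAction.stabilizer ↥R x0)
    have h6 : MulAction.stabilizer ↥R x0 = (N ⊓ R).subgroupOf R := by
      ext g
      rw [MulAction.mem_stabilizer_iff, mem_subgroupOf]
      show (g : G) • x0 = x0 ↔ _
      rw [hx0, base_iff]
      exact ⟨fun h => Subgroup.mem_inf.2 ⟨h, g.2⟩, fun h => h.1⟩
    have h7 : Nat.card (MulAction.stabilizer ↥R x0) = 21 := by
      rw [h6, Nat.card_congr (subgroupOfEquivOfLe (H := N ⊓ R) (K := R) inf_le_right).toEquiv, (H.cardR hr hrN).1]
    have h8 : (MulAction.orbit ↥R x0).ncard ≤ f + 1 := by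
      have h9 : MulAction.orbit ↥R x0 ⊆ insert x0 {x : G ⧸ N | r • x = x ∧ x ≠ x0} := by
        rintro _ ⟨g, rfl⟩
        show (g : G) • x0 ∈ _
        by_cases h10 : (g : G) • x0 = x0
        · exact Or.inl h10
        · refine Or.inr ⟨?_, h10⟩
          have h11 : (g : G)⁻¹ * r * (g : G) ∈ zpowers r := by
            have := (mem_normalizer_iff.1 (Subgroup.inv_mem _ g.2) r).1 (mem_zpowers r)
            rwa [inv_inv] at this
          have h12 : (g : G)⁻¹ * r * (g : G) ∈ N := (zpowers_le.2 hrN) h11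
          rw [← base_iff, ← hx0] at h12
          calc r • (g : G) • x0 = (g : G) • (((g : G)⁻¹ * r * (g : G)) • x0) := by
                rw [← mul_smul, ← mul_smul]; congr 1; group
            _ = (g : G) • x0 := by rw [h12]
      have h10 := Set.ncard_le_ncard h9 (Set.toFinite _)
      refine h10.trans ((Set.ncard_insert_le _ _).trans ?_)
      exact le_rfl
    rw [h7, h4] at h5
    rw [← h5]
    exact Nat.mul_le_mul_left 21 h8
  omega

/-- the whole configuration -/
theorem Syl4.config : ∃ u : G, orderOf u = 2 ∧ u ∉ normalizer ((P : Subgroup G) : Set G) ∧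
    Nat.card ↥(normalizer ((P : Subgroup G) : Set G) ⊓ (normalizer ((P : Subgroup G) : Set G)).map (MulAut.conj u).toMonoidHom) = 21 ∧
    (∀ y : G ⧸ normalizer ((P : Subgroup G) : Set G), y ≠ QuotientGroup.mk 1 → ∃ n ∈ normalizer ((P : Subgroup G) : Set G), n • (u • (QuotientGroup.mk 1 : G ⧸ normalizer ((P : Subgroup G) : Set G))) = y) ∧
    Nat.card G = 1512 := by
  obtain ⟨u, hu, huN⟩ := H.exists_inv hns
  obtain ⟨r, hr, hrN, hrN'⟩ := H.exists_seven hns hu huN
  have hi := H.inverts hns hu huN hr hrN hrN'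
  have hf := H.fix_two hns hr hrN hu hi
  set N := normalizer ((P : Subgroup G) : Set G) with hN
  set x0 : G ⧸ N := QuotientGroup.mk 1 with hx0
  set y0 : G ⧸ N := u • x0 with hy0
  have hyx : y0 ≠ x0 := by
    intro h
    rw [hy0, hx0, base_iff] at h
    exact huN h
  have hry : r • y0 = y0 := by
    have h1 : (u⁻¹ * r * u) • x0 = x0 := by rw [hx0, base_iff]; exact hrN'
    calc r • y0 = u • ((u⁻¹ * r * u) • x0) := by rw [hy0, ← mul_smul, ← mul_smul]; congr 1; group
      _ = y0 := by rw [h1]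
  have huniq : ∀ x : G ⧸ N, r • x = x → x ≠ x0 → x = y0 := by
    intro x hx hx'
    have := Finite.card_le_one_iff_subsingleton.1 hf
    exact congrArg Subtype.val (Subsingleton.elim (⟨x, hx, hx'⟩ : {x : G ⧸ N // r • x = x ∧ x ≠ x0}) ⟨y0, hry, hyx⟩)
  have hstabD : MulAction.stabilizer G y0 = N.map (MulAut.conj u).toMonoidHom := by
    ext g
    rw [MulAction.mem_stabilizer_iff, mem_map_conj, ← base_iff, ← hx0, hy0]
    constructor
    · intro h
      rw [mul_smul, mul_smul, h, inv_smul_smul]
    · intro h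
      calc g • u • x0 = u • ((u⁻¹ * g * u) • x0) := by rw [← mul_smul, ← mul_smul]; congr 1; group
        _ = u • x0 := by rw [h]
  have hD : Nat.card ↥(N ⊓ N.map (MulAut.conj u).toMonoidHom) = 21 := by
    have h1 := (H.cardR hr hrN).1
    have h2 : N ⊓ normalizer ((zpowers r : Subgroup G) : Set G) ≤ N ⊓ N.map (MulAut.conj u).toMonoidHom := by
      rintro g ⟨hg, hg'⟩
      refine Subgroup.mem_inf.2 ⟨hg, ?_⟩
      rw [← hstabD, MulAction.mem_stabilizer_iff]
      apply huniq
      · have h11 : g⁻¹ * r * g ∈ zpowers r := by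
          have := (mem_normalizer_iff.1 (Subgroup.inv_mem _ hg') r).1 (mem_zpowers r)
          rwa [inv_inv] at this
        have h12 : g⁻¹ * r * g ∈ MulAction.stabilizer G y0 := (zpowers_le.2 (MulAction.mem_stabilizer_iff.2 hry)) h11
        rw [MulAction.mem_stabilizer_iff] at h12
        calc r • g • y0 = g • ((g⁻¹ * r * g) • y0) := by
              rw [← mul_smul r g y0, ← mul_smul g _ y0, mul_assoc, mul_inv_cancel_left]
          _ = g • y0 := by rw [h12]
      · intro h
        apply hyx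
        have hg0 : g⁻¹ • x0 = x0 := by rw [hx0, base_iff]; exact Subgroup.inv_mem _ hg
        rw [← hg0, ← h, inv_smul_smul]
    have h3 : Nat.card ↥(N ⊓ normalizer ((zpowers r : Subgroup G) : Set G)) ≤ Nat.card ↥(N ⊓ N.map (MulAut.conj u).toMonoidHom) :=
      Subgroup.card_le_of_le h2
    rw [h1] at h3
    rcases H.D_card hns hu huN with h | h
    · rw [h] at h3; omega
    · exact h
  have htrans : ∀ y : G ⧸ N, y ≠ x0 → ∃ n ∈ N, n • y0 = y := by
    intro y hy
    obtain ⟨v, hv, hvy⟩ := H.exists_swap hns (Ne.symm hy)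
    have hvN : v ∉ N := by
      intro h
      rw [← base_iff, ← hx0, hvy] at h
      exact hy h
    obtain ⟨s, hs, hsN, hsN'⟩ := H.exists_seven hns hv hvN
    obtain ⟨n, hn, hns'⟩ := (H.cardR hr hrN).2 s hs hsN
    refine ⟨n, hn, ?_⟩
    have h1 : s • y = y := by
      have h1 : (v⁻¹ * s * v) • x0 = x0 := by rw [hx0, base_iff]; exact hsN'
      calc s • y = v • ((v⁻¹ * s * v) • x0) := by rw [← hvy, ← mul_smul, ← mul_smul]; congr 1; group
        _ = y := by rw [h1, hvy]
    have h2 : n * r * n⁻¹ ∈ MulAction.stabilizer G y := (zpowers_le.2 (MulAction.mem_stabilizer_iff.2 h1)) hns'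
    rw [MulAction.mem_stabilizer_iff] at h2
    have h3 : n⁻¹ • y = y0 := by
      apply huniq
      · calc r • n⁻¹ • y = n⁻¹ • ((n * r * n⁻¹) • y) := by rw [← mul_smul, ← mul_smul]; congr 1; group
          _ = n⁻¹ • y := by rw [h2]
      · intro h
        apply hy
        have hg0 : n • x0 = x0 := by rw [hx0, base_iff]; exact hn
        rw [← hg0, ← h, smul_inv_smul]
    rw [← h3, smul_inv_smul]
  refine ⟨u, hu, huN, hD, htrans, ?_⟩
  -- the number of points
  have h1 : Nat.card (G ⧸ N) = 9 := by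
    have h4 := MulAction.index_stabilizer ↥N y0
    have h5 := card_mul_index (MulAction.stabilizer ↥N y0)
    have h6 : MulAction.stabilizer ↥N y0 = (N ⊓ N.map (MulAut.conj u).toMonoidHom).subgroupOf N := by
      ext g
      rw [MulAction.mem_stabilizer_iff, mem_subgroupOf, ← hstabD]
      show (g : G) • y0 = y0 ↔ _
      exact ⟨fun h => Subgroup.mem_inf.2 ⟨g.2, h⟩, fun h => h.2⟩
    have h7 : Nat.card (MulAction.stabilizer ↥N y0) = 21 := by
      rw [h6, Nat.card_congr (subgroupOfEquivOfLe (H := N ⊓ N.map (MulAut.conj u).toMonoidHom) (K := N) inf_le_left).toEquiv, hD]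
    have h8 : MulAction.orbit ↥N y0 = {x : G ⧸ N | x ≠ x0} := by
      ext x
      constructor
      · rintro ⟨g, rfl⟩ h
        apply hyx
        have hg0 : (g : G)⁻¹ • x0 = x0 := by rw [hx0, base_iff]; exact Subgroup.inv_mem _ g.2
        have h : (g : G) • y0 = x0 := h
        rw [← hg0, ← h, inv_smul_smul]
      · intro hx
        obtain ⟨n, hn, hn'⟩ := htrans x hx
        exact ⟨⟨n, hn⟩, hn'⟩
    have h9 : {x : G ⧸ N | x ≠ x0} = Set.univ \ {x0} := by
      ext x; simp
    have h10 : {x : G ⧸ N | x ≠ x0}.ncard + 1 = Nat.card (G ⧸ N) := by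
      rw [h9, ← Set.ncard_univ]
      exact Set.ncard_sdiff_singleton_add_one (Set.mem_univ x0) (Set.toFinite _)
    rw [h7, h4, h8, H.cardN] at h5
    omega
  rw [card_eq_card_quotient_mul_card_subgroup N, h1, H.cardN]

end

end H92.JA
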