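import Mathlib
import Cfsg.Prelude.Def_Involutions
import Cfsg.Prelude.Def_LieRecognition
import Cfsg.Agent.Lib.H92.JA8

/-!
Centralizer of a 2-central involution equal to `⟨J⟩ × A_4`: the doubly transitive action as a rank one setup.
-/

set_option autoImplicit false
set_option linter.unusedSectionVars false
set_option linter.unusedVariables false
set_option linter.style.haveILetI false
open Cfsg

namespace H92.JA
open Subgroup H25.StrEmb

variable {G : Type*} [Group G]

section
variable [Finite G] {J : G} {T : Subgroup G} {P : Sylow 2 G} (H : Syl4 J T P) (hns : ¬ Group.IsSolvable G)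
include H

theorem Syl4.two : ∃ x y : G, x ≠ 1 ∧ y ≠ 1 ∧ x ≠ y ∧ x * x = 1 ∧ y * y = 1 ∧ x * y = y * x := by
  obtain ⟨v, hv, hv2, -⟩ := H.cen
  refine ⟨J, v, H.H.X.ne, ?_, ?_, H.H.X.sq, ?_, (H.H.X.comm v hv).symm⟩
  · rintro rfl
    rw [orderOf_one] at hv2; omega
  · rintro rfl
    exact H.H.X.JT hv
  · have := pow_orderOf_eq_one v
    rwa [hv2, pow_two] at this

include hns

theorem Syl4.faithful : FaithfulSMul G (G ⧸ normalizer ((P : Subgroup G) : Set G)) := by
  obtain ⟨u, hu, huN⟩ := H.exists_inv hns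
  have hyx : u • (QuotientGroup.mk 1 : G ⧸ normalizer ((P : Subgroup G) : Set G)) ≠ QuotientGroup.mk 1 := by
    intro h
    exact huN (base_iff.1 h)
  have key1 : ∀ k : G, (∀ a : G ⧸ normalizer ((P : Subgroup G) : Set G), k • a = a) → k ∈ (P : Subgroup G) → k = 1 := by
    intro k hk hkP
    by_contra h1
    exact hyx (fixes_unique (H.strong hns) (H.H.ord hkP h1) (hk _) (hk _))
  have key : ∀ k : G, (∀ a : G ⧸ normalizer ((P : Subgroup G) : Set G), k • a = a) → k = 1 := by
    intro k hk
    apply key1 k hk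
    apply H.cent_P
    intro x hx
    have hkN : k ∈ normalizer ((P : Subgroup G) : Set G) := base_iff.1 (hk _)
    have hki : ∀ a : G ⧸ normalizer ((P : Subgroup G) : Set G), k⁻¹ • a = a := fun a => by rw [inv_smul_eq_iff, hk]
    have h1 : k * x * k⁻¹ * x⁻¹ = 1 := by
      apply key1
      · intro a
        rw [mul_smul, mul_smul, mul_smul, hk, hki, smul_inv_smul]
      · exact (P : Subgroup G).mul_mem ((mem_normalizer_iff.1 hkN x).1 hx) ((P : Subgroup G).inv_mem hx)
    rw [mul_inv_eq_one, mul_inv_eq_iff_eq_mul] at h1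
    exact h1
  refine ⟨fun {g h} hgh => ?_⟩
  have h1 : g⁻¹ * h = 1 := by
    apply key
    intro a
    rw [mul_smul, ← hgh, inv_smul_smul]
  have := eq_inv_of_mul_eq_one_right h1
  rw [inv_inv] at this
  exact this.symm

theorem Syl4.setup : ∃ u : G, IsRankOneSetup G (G ⧸ normalizer ((P : Subgroup G) : Set G)) (QuotientGroup.mk 1) u (P : Subgroup G) := by
  obtain ⟨u, hu, huN, hD, htrans, -⟩ := H.config hns
  have hst : MulAction.stabilizer G (QuotientGroup.mk 1 : G ⧸ normalizer ((P : Subgroup G) : Set G)) = normalizer ((P : Subgroup G) : Set G) := by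
    ext g
    rw [MulAction.mem_stabilizer_iff, base_iff]
  have huu : u * u = 1 := by
    have := pow_orderOf_eq_one u
    rwa [hu, pow_two] at this
  have h8 : Nat.card (P : Subgroup G) = 8 := H.H.card
  have hinf : (P : Subgroup G) ⊓ MulAction.stabilizer G (u • (QuotientGroup.mk 1 : G ⧸ normalizer ((P : Subgroup G) : Set G))) = ⊥ := by
    rw [eq_bot_iff]
    rintro x ⟨hx, hx'⟩
    rw [mem_bot]
    by_contra h1
    apply huN
    rw [← base_iff]
    exact fixes_unique (H.strong hns) (H.H.ord hx h1) hx' (base_iff.2 (le_normalizer hx))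
  have hcD : Nat.card ↥(MulAction.stabilizer G (QuotientGroup.mk 1 : G ⧸ normalizer ((P : Subgroup G) : Set G)) ⊓
      MulAction.stabilizer G (u • (QuotientGroup.mk 1 : G ⧸ normalizer ((P : Subgroup G) : Set G)))) = 21 := by
    rw [MulAction.stabilizer_smul_eq_stabilizer_map_conj, hst]
    exact hD
  refine ⟨u, ?_, huu, ?_, ?_, ?_, ?_, hinf, ?_, ?_, ?_⟩
  · rw [MulAction.is_two_pretransitive_iff]
    have hone : ∀ a b : G ⧸ normalizer ((P : Subgroup G) : Set G), a ≠ b → ∃ g : G, g • (QuotientGroup.mk 1 : G ⧸ normalizer ((P : Subgroup G) : Set G)) = a ∧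
        g • (u • (QuotientGroup.mk 1 : G ⧸ normalizer ((P : Subgroup G) : Set G))) = b := by
      intro a b hab
      obtain ⟨g, hg⟩ := MulAction.exists_smul_eq G (QuotientGroup.mk 1 : G ⧸ normalizer ((P : Subgroup G) : Set G)) a
      obtain ⟨n, hn, hn'⟩ := htrans (g⁻¹ • b) (by
        intro h
        apply hab
        rw [← hg, ← h, smul_inv_smul])
      refine ⟨g * n, ?_, ?_⟩
      · rw [mul_smul, base_iff.2 hn, hg]
      · rw [mul_smul, hn', smul_inv_smul]
    intro a b c d hab hcd
    obtain ⟨g, hg, hg'⟩ := hone a b hab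
    obtain ⟨h, hh, hh'⟩ := hone c d hcd
    refine ⟨h * g⁻¹, ?_, ?_⟩
    · rw [mul_smul, ← hg, inv_smul_smul, hh]
    · rw [mul_smul, ← hg', inv_smul_smul, hh']
  · rintro rfl
    rw [orderOf_one] at hu; omega
  · rw [hst]; exact huN
  · rw [hst]; exact le_normalizer
  · rw [hst]
    intro h hh x hx
    exact (mem_normalizer_iff.1 hh x).1 hx
  · -- the join
    apply Subgroup.eq_of_le_of_card_ge
    · refine sup_le ?_ inf_le_left
      rw [hst]; exact le_normalizer
    · set D := MulAction.stabilizer G (QuotientGroup.mk 1 : G ⧸ normalizer ((P : Subgroup G) : Set G)) ⊓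
        MulAction.stabilizer G (u • (QuotientGroup.mk 1 : G ⧸ normalizer ((P : Subgroup G) : Set G))) with hDdef
      have hdis : Disjoint (P : Subgroup G) D := by
        rw [disjoint_iff, eq_bot_iff, ← hinf]
        exact inf_le_inf_left _ inf_le_right
      have hinj := mul_injective_of_disjoint hdis
      let f : ↥(P : Subgroup G) × ↥D → ↥((P : Subgroup G) ⊔ D) := fun a => ⟨(a.1 : G) * a.2, Subgroup.mul_mem _ ((le_sup_left : (P : Subgroup G) ≤ _) a.1.2) ((le_sup_right : D ≤ _) a.2.2)⟩
      have hf : Function.Injective f := by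
        intro a b hab
        exact hinj (congrArg Subtype.val hab)
      have h1 := Nat.card_le_card_of_injective f hf
      rw [Nat.card_prod, h8, hcD] at h1
      rw [hst, H.cardN]
      exact h1
  · rw [h8]; decide
  · rw [hcD]; decide

end

end H92.JA
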