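import Mathlib
import Cfsg.Prelude.Def_Involutions
import Cfsg.Prelude.Def_LieRecognition
import Cfsg.Prelude.Def_Classical
import Cfsg.Prelude.Def_Sz
import Cfsg.Prelude.Def_KGroupFacts
import Cfsg.Agent.Lib.H92.JA9
import Cfsg.Agent.Lib.H24.SzIso
import Cfsg.Agent.Lib.H8.SuzGroup
import Cfsg.Agent.S0243
import Cfsg.Agent.S0280
import Cfsg.Agent.S2602

/-!
Centralizer of a 2-central involution equal to `⟨J⟩ × A_4`: identification of the group.
-/

set_option autoImplicit false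
set_option linter.unusedSectionVars false
set_option linter.unusedVariables false
set_option linter.style.haveILetI false
open Cfsg

namespace H92.JA
open Subgroup H25.StrEmb

theorem card_psl2 {F : Type*} [Field F] [Fintype F] {q : ℕ} (hF : Fintype.card F = q) :
    Nat.gcd 2 (q - 1) * ((q - 1) * Nat.card (Matrix.ProjectiveSpecialLinearGroup (Fin 2) F)) = (q ^ 2 - 1) * (q ^ 2 - q) := by
  have h := Cfsg.Agent.S0243.result (F := F) (q := q) hF 2 le_rfl
  rw [h, Fin.prod_univ_two]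
  simp

theorem card_psl2_two {F : Type*} [Field F] [Fintype F] {n : ℕ} (hF : Fintype.card F = 2 ^ n) (hn : 1 ≤ n) :
    Nat.card (Matrix.ProjectiveSpecialLinearGroup (Fin 2) F) = 2 ^ n * (4 ^ n - 1) := by
  have h := card_psl2 hF
  obtain ⟨k, rfl⟩ : ∃ k, n = k + 1 := ⟨n - 1, by omega⟩
  have hq : 1 ≤ 2 ^ k := Nat.one_le_pow _ _ (by norm_num)
  have hg : Nat.gcd 2 (2 ^ (k + 1) - 1) = 1 := by
    have : (2 ^ (k + 1) - 1) % 2 = 1 := by
      rw [pow_succ]; omega
    rw [Nat.gcd_comm]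
    exact (Nat.coprime_two_right).2 (Nat.odd_iff.2 this)
  rw [hg, one_mul] at h
  have h4 : (4 : ℕ) ^ (k + 1) = (2 ^ (k + 1)) ^ 2 := by
    rw [← pow_mul, mul_comm, pow_mul]; norm_num
  rw [h4]
  generalize hQ : 2 ^ (k + 1) = Q at *
  have hQ2 : 2 ≤ Q := by rw [← hQ, pow_succ]; omega
  obtain ⟨s, rfl⟩ : ∃ s, Q = s + 1 := ⟨Q - 1, by omega⟩
  have e1 : (s + 1) ^ 2 - (s + 1) = s * (s + 1) := by
    have : (s + 1) ^ 2 = s * (s + 1) + (s + 1) := by ring
    omega
  rw [e1, Nat.add_sub_cancel] at h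
  have hs : 0 < s := by omega
  have h5 : s * Nat.card (Matrix.ProjectiveSpecialLinearGroup (Fin 2) F) = s * ((s + 1) * ((s + 1) ^ 2 - 1)) := by
    rw [h]; ring
  exact Nat.eq_of_mul_eq_mul_left hs h5

theorem suz_card {G : Type*} [Group G] (h : Lie.IsoSuzuki G) : 1512 < Nat.card G := by
  obtain ⟨F, _, _, m, hm, hF, ⟨e⟩⟩ := h
  have h1 : Nat.card G = Nat.card (Sz F m) := Nat.card_congr (e.trans (H24.SzIso.equiv hF hm).symm).toEquiv
  rw [h1, H8.SuzGroup.card_Sz hm hF]
  have h2 : 8 ≤ 2 ^ (2 * m + 1) := by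
    calc 8 = 2 ^ (2 * 1 + 1) := by norm_num
      _ ≤ 2 ^ (2 * m + 1) := Nat.pow_le_pow_right (by norm_num) (by omega)
  generalize 2 ^ (2 * m + 1) = q at h2
  have h3 : 8 ^ 2 ≤ q ^ 2 := Nat.pow_le_pow_left h2 2
  calc 1512 < 8 ^ 2 * (8 ^ 2 + 1) * (8 - 1) := by norm_num
    _ ≤ q ^ 2 * (q ^ 2 + 1) * (q - 1) := Nat.mul_le_mul (Nat.mul_le_mul h3 (by omega)) (by omega)

theorem psu_card {F : Type*} [Field F] [Fintype F] {n : ℕ} (hn : 2 ≤ n) (hF : Fintype.card F = (2 ^ n) ^ 2) :
    1512 < Nat.card (PSU 3 F (2 ^ n)) := by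
  have h := Cfsg.Agent.S0280.result (F := F) (q := 2 ^ n) hF 3 (by norm_num)
  simp only [Finset.prod_range_succ, Finset.prod_range_zero] at h
  rw [if_pos (by decide), if_neg (by decide), if_pos (by decide)] at h
  have h2 : 4 ≤ 2 ^ n := by
    calc 4 = 2 ^ 2 := by norm_num
      _ ≤ 2 ^ n := Nat.pow_le_pow_right (by norm_num) hn
  generalize 2 ^ n = q at h2 h ⊢
  norm_num at h
  have hg : Nat.gcd 3 (q + 1) ≤ 3 := Nat.le_of_dvd (by norm_num) (Nat.gcd_dvd_left _ _)
  by_contra hcon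
  push Not at hcon
  generalize Nat.card (PSU 3 F q) = c at h hcon
  have h3 : Nat.gcd 3 (q + 1) * ((q + 1) * c) ≤ 3 * ((q + 1) * 1512) := Nat.mul_le_mul hg (Nat.mul_le_mul_left _ hcon)
  rw [h] at h3
  have h4 : 4 ^ 3 ≤ q ^ 3 := Nat.pow_le_pow_left h2 3
  have h5 : 4 ^ 2 ≤ q ^ 2 := Nat.pow_le_pow_left h2 2
  have h6 : 64 * ((q + 1) * 15 * 65) ≤ q ^ 3 * ((q + 1) * (q ^ 2 - 1) * (q ^ 3 + 1)) :=
    Nat.mul_le_mul (by omega) (Nat.mul_le_mul (Nat.mul_le_mul_left _ (by omega)) (by omega))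
  have h7 := h6.trans h3
  omega

/-- the order of the automorphism group of `PSL_2(8)` -/
theorem card_aut {F : Type*} [Field F] [Fintype F] (hF : Fintype.card F = 8) :
    Nat.card (MulAut (Matrix.ProjectiveSpecialLinearGroup (Fin 2) F)) ≤ 1512 := by
  haveI : Fact (Nat.Prime 2) := ⟨Nat.prime_two⟩
  have h1 : Nat.card (Matrix.ProjectiveSpecialLinearGroup (Fin 2) F) = 504 := by
    rw [card_psl2_two (n := 3) (by rw [hF]; norm_num) (by norm_num)]; norm_num
  obtain ⟨φ, hφ, -, hk⟩ := Cfsg.Agent.S2602.result (F := F) (p := 2) (f := 3) (by norm_num) (by rw [hF]; norm_num) (by norm_num)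
  have h2 : Nat.card φ.ker = 1 := by rw [hk]; decide
  have h3 : Nat.card (Cfsg.Out (Matrix.ProjectiveSpecialLinearGroup (Fin 2) F)) = 3 := by
    have h4 := card_mul_index φ.ker
    rw [index_ker, MonoidHom.range_eq_top.2 hφ, h2, one_mul, Subgroup.card_top] at h4
    rw [← h4, Nat.card_eq_fintype_card]
    rfl
  have h4 := card_eq_card_quotient_mul_card_subgroup (Cfsg.Inn (Matrix.ProjectiveSpecialLinearGroup (Fin 2) F))
  have h5 : Nat.card (Cfsg.Inn (Matrix.ProjectiveSpecialLinearGroup (Fin 2) F)) ≤ 504 := by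
    rw [← h1]
    exact Nat.card_le_card_of_surjective _ (MulAut.conj : Matrix.ProjectiveSpecialLinearGroup (Fin 2) F →* _).rangeRestrict_surjective
  rw [h4, h3]
  omega

variable {G : Type*} [Group G]

section
variable [Finite G] {J : G} {T : Subgroup G} {P : Sylow 2 G} (H : Syl4 J T P) (hns : ¬ Group.IsSolvable G)
include H hns

theorem Syl4.ident (L : Subgroup G) (hL : L.Normal) (hodd : Odd L.index)
    (hc : (∃ (F : Type) (_ : Field F) (_ : Fintype F), (∃ n : ℕ, 2 ≤ n ∧ Fintype.card F = 2 ^ n) ∧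
          Nonempty (L ≃* Matrix.ProjectiveSpecialLinearGroup (Fin 2) F)) ∨
        Cfsg.Lie.IsoSuzuki L ∨
        (∃ (F : Type) (_ : Field F) (_ : Fintype F) (n : ℕ), 2 ≤ n ∧ Fintype.card F = (2 ^ n) ^ 2 ∧
          Nonempty (L ≃* Cfsg.PSU 3 F (2 ^ n)))) :
    ∃ (F : Type) (_ : Field F) (_ : Fintype F), Fintype.card F = 8 ∧
        Nonempty (G ≃* MulAut (Matrix.ProjectiveSpecialLinearGroup (Fin 2) F)) := by
  haveI := hL
  obtain ⟨u, -, -, -, -, hG⟩ := H.config hns
  have hLG := card_mul_index L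
  rw [hG] at hLG
  have hL1 : Nat.card L ≤ 1512 := Nat.le_of_dvd (by norm_num) ⟨_, hLG.symm⟩
  rcases hc with ⟨F, _, _, ⟨n, hn, hF⟩, ⟨e⟩⟩ | h | ⟨F, _, _, n, hn, hF, ⟨e⟩⟩
  · have hcard : Nat.card L = 2 ^ n * (4 ^ n - 1) := by
      rw [Nat.card_congr e.toEquiv, card_psl2_two hF (by omega)]
    have hn3 : n = 3 := by
      have hn10 : n < 4 := by
        by_contra hcon
        have h1 : 2 ^ 4 ≤ 2 ^ n := Nat.pow_le_pow_right (by norm_num) (by omega)
        have h2 : 4 ^ 4 ≤ 4 ^ n := Nat.pow_le_pow_right (by norm_num) (by omega)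
        have h3 : 2 ^ 4 * (4 ^ 4 - 1) ≤ 2 ^ n * (4 ^ n - 1) := Nat.mul_le_mul h1 (by omega)
        rw [← hcard] at h3
        norm_num at h3
        omega
      by_contra hne
      have h2 : n = 2 := by omega
      rw [h2] at hcard
      norm_num at hcard
      rw [hcard] at hLG
      omega
    subst hn3
    have hF8 : Fintype.card F = 8 := by rw [hF]; norm_num
    have hL504 : Nat.card L = 504 := by rw [hcard]; norm_num
    refine ⟨F, inferInstance, inferInstance, hF8, ?_⟩
    -- the Sylow subgroup lies in L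
    have hPL : (P : Subgroup G) ≤ L := by
      intro x hx
      have h1 : (QuotientGroup.mk x : G ⧸ L) = 1 := by
        rw [← orderOf_eq_one_iff]
        have h2 : orderOf (QuotientGroup.mk x : G ⧸ L) ∣ 2 := by
          apply orderOf_dvd_of_pow_eq_one
          rw [pow_two, ← QuotientGroup.mk_mul, H.H.sq x hx]
          rfl
        have h3 : orderOf (QuotientGroup.mk x : G ⧸ L) ∣ L.index := orderOf_dvd_natCard _
        have h4 := Nat.dvd_gcd h2 h3
        rw [(Nat.coprime_two_left).2 hodd] at h4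
        exact Nat.dvd_one.1 h4
      exact (QuotientGroup.eq_one_iff x).1 h1
    let f : G →* MulAut L := MulAut.conjNormal
    have hf : Function.Injective f := by
      rw [injective_iff_map_eq_one]
      intro c hc
      have hcc : ∀ x ∈ L, c * x = x * c := by
        intro x hx
        have h1 := congrArg Subtype.val (DFunLike.congr_fun hc ⟨x, hx⟩)
        have h2 : c * x * c⁻¹ = x := h1
        rwa [mul_inv_eq_iff_eq_mul] at h2
      have hcP : c ∈ (P : Subgroup G) := H.cent_P (fun x hx => hcc x (hPL hx))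
      by_contra h1
      have h2 : L ≤ centralizer ({c} : Set G) := fun x hx => mem_centralizer_singleton_iff.2 (hcc x hx).symm
      have h3 := Subgroup.card_le_of_le h2
      rw [H.card_inv (H.H.ord hcP h1), hL504] at h3
      omega
    haveI : Finite (MulAut ↥L) := inferInstance
    have hb : Function.Bijective f := by
      apply hf.bijective_of_nat_card_le
      rw [hG, Nat.card_congr (MulAut.congr e).toEquiv]
      exact card_aut hF8
    exact ⟨(MulEquiv.ofBijective f hb).trans (MulAut.congr e)⟩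
  · exact absurd (suz_card h) (by omega)
  · have h := psu_card hn hF
    rw [← Nat.card_congr e.toEquiv] at h
    omega

end

end H92.JA
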