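import Mathlib
import Cfsg.Prelude.Def_FischerSpaces
import Cfsg.Agent.Lib.H92.M22
import Cfsg.Agent.Lib.H92.Frame
import Cfsg.Agent.S0607

/-!
The Thompson subgroup of a Sylow 2-subgroup in type M(22).
-/

set_option autoImplicit false
set_option linter.dupNamespace false
set_option linter.unusedSectionVars false
set_option linter.style.haveILetI false
set_option linter.unusedVariables false
open Cfsg
open scoped commutatorElement

universe u

namespace H92.Thomp22
open H92.Tri H92.Pol H92.Lev H92.RelList H92.Geo H92.Frame H92.Inv2 H92.Inv3 H92.Inv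

variable {G : Type u} [Group G] [Finite G] {D : Set G} (h : LG 1 D) (hE : D.ncard = 3510) (hcl : Subgroup.closure D = ⊤)
  (hZ : Subgroup.center G = ⊥) {Δ : Set G} (hf : Fr 1 D Δ)
include h hE hcl hZ hf

omit [Finite G] h hE hcl hZ hf in
theorem half {H V : Subgroup G} [Finite G] (hHV : H ≤ V) (hc : Nat.card V ≤ 2 * Nat.card H) {x y : G} (hx : x ∈ V) (hy : y ∈ V)
    (hxH : x ∉ H) (hyH : y ∉ H) : x * y ∈ H := by
  have h1 := H13.Replace.card_eq_mul_relIndex hHV
  have h2 : 0 < Nat.card H := Nat.card_pos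
  have h3 : H.relIndex V ≤ 2 := by
    by_contra h4
    push Not at h4
    have : Nat.card H * 3 ≤ Nat.card V := by rw [h1]; exact Nat.mul_le_mul_left _ h4
    omega
  have h4 : H.relIndex V ≠ 0 := by
    intro h0
    rw [h0, mul_zero] at h1
    have : 0 < Nat.card V := Nat.card_pos
    omega
  have h5 : H.relIndex V ≠ 1 := by
    intro h0
    exact hxH (Subgroup.relIndex_eq_one.1 h0 hx)
  have h6 : (H.subgroupOf V).index = 2 := by
    show H.relIndex V = 2
    omega
  have h7 := Subgroup.mul_mem_iff_of_index_two h6 (a := ⟨x, hx⟩) (b := ⟨y, hy⟩)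
  rw [Subgroup.mem_subgroupOf, Subgroup.mem_subgroupOf, Subgroup.mem_subgroupOf] at h7
  exact h7.2 ⟨fun h => absurd h hxH, fun h => absurd h hyH⟩

omit [Finite G] h hE hcl hZ hf in
theorem card_le_two {H K : Subgroup G} [Finite G] (hHK : H ≤ K) {b : G} (hb : ∀ c ∈ K, c ∈ H ∨ b * c ∈ H) : Nat.card K ≤ 2 * Nat.card H := by
  classical
  have hinj : Function.Injective (fun c : K => if hc : (c : G) ∈ H then ((⟨c, hc⟩ : H), true) else
      ((⟨b * c, (hb c c.2).resolve_left hc⟩ : H), false)) := by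
    intro c c' hcc
    dsimp only at hcc
    by_cases h1 : (c : G) ∈ H <;> by_cases h2 : (c' : G) ∈ H
    · rw [dif_pos h1, dif_pos h2] at hcc
      exact Subtype.ext (congrArg (fun p : H × Bool => (p.1 : G)) hcc)
    · rw [dif_pos h1, dif_neg h2] at hcc
      exact absurd (congrArg Prod.snd hcc) (by simp)
    · rw [dif_neg h1, dif_pos h2] at hcc
      exact absurd (congrArg Prod.snd hcc) (by simp)
    · rw [dif_neg h1, dif_neg h2] at hcc
      have h3 : b * (c : G) = b * c' := congrArg (fun p : H × Bool => (p.1 : G)) hcc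
      exact Subtype.ext (mul_left_cancel h3)
  have := Nat.card_le_card_of_injective _ hinj
  rw [Nat.card_prod, Nat.card_eq_fintype_card (α := Bool), Fintype.card_bool] at this
  omega

theorem mem_of_comm {b : G} (hb : b * b = 1) (hc : ∀ y ∈ Δ, Commute b y) : b ∈ Subgroup.closure Δ := by
  obtain ⟨l, l1, l2, l3, l4, rfl⟩ := M22.inv_one h hE hcl hZ hb
  apply Subgroup.list_prod_mem
  intro a ha
  apply Subgroup.subset_closure
  apply Fr.max h.lev hf (l3 a ha)
  intro y hy
  exact (comm_short h.lev.tri l l1 l3 l4 l2 (hf.sub hy) (hc y hy).symm a ha).symm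

theorem fix_le {b : G} (hb : b * b = 1) (hbV : b ∉ Subgroup.closure Δ) : {y | y ∈ Δ ∧ Commute b y}.ncard ≤ 6 := by
  obtain ⟨l, l1, l2, l3, l4, rfl⟩ := M22.inv_one h hE hcl hZ hb
  have hex : ∃ a ∈ l, a ∉ Δ := by
    by_contra hno
    push Not at hno
    exact hbV (Subgroup.list_prod_mem _ fun a ha => Subgroup.subset_closure (hno a ha))
  obtain ⟨a, ha, haΔ⟩ := hex
  have hsub : {y | y ∈ Δ ∧ Commute l.prod y} ⊆ {y | y ∈ Δ ∧ Commute a y} := by
    rintro y ⟨hy, hc⟩
    exact ⟨hy, (comm_short h.lev.tri l l1 l3 l4 l2 (hf.sub hy) hc.symm a ha).symm⟩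
  have h1 := Set.ncard_le_ncard hsub (Set.toFinite _)
  rcases cnt_one h.lev hf (l3 a ha) haΔ with h2 | h2 <;> omega

theorem pair_unique {x y z w : G} (hx : x ∈ Δ) (hy : y ∈ Δ) (hz : z ∈ Δ) (hw : w ∈ Δ) (hxy : x ≠ y) (hzw : z ≠ w) (he : x * y = z * w) :
    z = x ∨ z = y := by
  have h1 := unique_short h.lev 2 (by norm_num) (by norm_num) [x, y] [z, w] (by simpa using hxy)
    (by intro a ha; simp at ha; rcases ha with rfl | rfl; exacts [hf.sub hx, hf.sub hy])
    (by
      intro a ha b hb; simp at ha hb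
      rcases ha with rfl | rfl <;> rcases hb with rfl | rfl <;> apply hf.comm <;> assumption) rfl (by simpa using hzw)
    (by intro a ha; simp at ha; rcases ha with rfl | rfl; exacts [hf.sub hz, hf.sub hw])
    (by
      intro a ha b hb; simp at ha hb
      rcases ha with rfl | rfl <;> rcases hb with rfl | rfl <;> apply hf.comm <;> assumption) rfl (by simpa using he)
  have := (h1 z).2 (by simp)
  simpa using this

/-- a quadratic elementary abelian subgroup of maximal order centralizes the frame -/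
theorem no_quadratic (B : Subgroup G) (hBc : ∀ b ∈ B, ∀ c ∈ B, Commute b c) (hB2 : ∀ b ∈ B, b * b = 1) (hN : ∀ b ∈ B, ∀ y ∈ Δ, b * y * b⁻¹ ∈ Δ)
    (hquad : ∀ b ∈ B, ∀ c ∈ B, ∀ x ∈ Δ, Commute c (x * (b * x * b⁻¹)))
    (hmax : Nat.card ↥(Subgroup.closure Δ) ≤ Nat.card B) : ∀ b ∈ B, ∀ y ∈ Δ, Commute b y := by
  classical
  set V := Subgroup.closure Δ with hV
  by_contra hno
  push Not at hno
  obtain ⟨b, hb, y0, hy0, hby0⟩ := hno
  have hbV : b ∉ V := by
    intro hm
    have : V ≤ Subgroup.centralizer ({y0} : Set G) := by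
      rw [hV, Subgroup.closure_le]
      intro z hz
      rw [SetLike.mem_coe, Subgroup.mem_centralizer_singleton_iff]
      exact hf.comm z hz y0 hy0
    exact hby0 (Subgroup.mem_centralizer_singleton_iff.1 (this hm))
  have hbb := hB2 b hb
  have hinv : ∀ b ∈ B, b⁻¹ = b := fun b hb => inv_eq_of_mul_eq_one_left (hB2 b hb)
  have hmv : ∀ b ∈ B, ∀ x : G, ¬ Commute b x → b * x * b⁻¹ ≠ x := by
    intro b hb x hx he
    exact hx (mul_inv_eq_iff_eq_mul.1 he)
  -- orbits have length at most two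
  have horb : ∀ b ∈ B, ∀ c ∈ B, ∀ x ∈ Δ, ¬ Commute b x → ¬ Commute c x → Commute (b * c) x := by
    intro b hb c hc x hx h1 h2
    have h3 := hquad b hb c hc x hx
    have e : (c * x * c⁻¹) * (c * (b * x * b⁻¹) * c⁻¹) = x * (b * x * b⁻¹) := by
      calc (c * x * c⁻¹) * (c * (b * x * b⁻¹) * c⁻¹) = c * (x * (b * x * b⁻¹)) * c⁻¹ := by group
        _ = x * (b * x * b⁻¹) := by rw [h3.eq, mul_inv_cancel_right]
    have hne : x ≠ b * x * b⁻¹ := fun e => hmv b hb x h1 e.symm
    have hne' : c * x * c⁻¹ ≠ c * (b * x * b⁻¹) * c⁻¹ := fun e => hne (mul_left_cancel (mul_right_cancel e))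
    rcases pair_unique h hE hcl hZ hf hx (hN b hb x hx) (hN c hc x hx) (hN c hc _ (hN b hb x hx)) hne hne' e.symm with h4 | h4
    · exact absurd h4 (hmv c hc x h2)
    · show b * c * x = x * (b * c)
      have h5 : c * x = (b * x * b⁻¹) * c := by rw [← h4]; group
      calc b * c * x = b * (c * x) := by group
        _ = b * ((b * x * b⁻¹) * c) := by rw [h5]
        _ = (b * b) * x * b⁻¹ * c := by group
        _ = x * (b * c) := by rw [hB2 b hb, one_mul, hinv b hb]; group
  have hone : ∀ c ∈ B, c ∈ B ⊓ V ∨ b * c ∈ B ⊓ V := by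
    intro c hc
    by_contra hno
    push Not at hno
    obtain ⟨n1, n2⟩ := hno
    have hcV : c ∉ V := fun hm => n1 ⟨hc, hm⟩
    have hbc : b * c ∈ B := B.mul_mem hb hc
    have hbcV : b * c ∉ V := fun hm => n2 ⟨hbc, hm⟩
    have f1 := fix_le h hE hcl hZ hf hbb hbV
    have f2 := fix_le h hE hcl hZ hf (hB2 c hc) hcV
    have f3 := fix_le h hE hcl hZ hf (hB2 _ hbc) hbcV
    have hsub : Δ ⊆ ({y | y ∈ Δ ∧ Commute b y} ∪ {y | y ∈ Δ ∧ Commute c y}) ∪ {y | y ∈ Δ ∧ Commute (b * c) y} := by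
      intro x hx
      by_cases c1 : Commute b x
      · exact Or.inl (Or.inl ⟨hx, c1⟩)
      · by_cases c2 : Commute c x
        · exact Or.inl (Or.inr ⟨hx, c2⟩)
        · exact Or.inr ⟨hx, horb b hb c hc x hx c1 c2⟩
    have h1 := Set.ncard_le_ncard hsub (Set.toFinite _)
    have h2 := Set.ncard_union_le ({y | y ∈ Δ ∧ Commute b y} ∪ {y | y ∈ Δ ∧ Commute c y}) {y | y ∈ Δ ∧ Commute (b * c) y}
    have h3 := Set.ncard_union_le {y | y ∈ Δ ∧ Commute b y} {y | y ∈ Δ ∧ Commute c y}
    have h4 := hf.card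
    omega
  have hcard := card_le_two (inf_le_left : B ⊓ V ≤ B) hone
  have hcard2 : Nat.card V ≤ 2 * Nat.card ↥(B ⊓ V) := hmax.trans hcard
  -- two members moved by b in different orbits
  have hex : ∃ x2 ∈ Δ, ¬ Commute b x2 ∧ x2 ≠ y0 ∧ x2 ≠ b * y0 * b⁻¹ := by
    by_contra hno
    push Not at hno
    have hsub : Δ ⊆ {y | y ∈ Δ ∧ Commute b y} ∪ {y0, b * y0 * b⁻¹} := by
      intro x hx
      by_cases c1 : Commute b x
      · exact Or.inl ⟨hx, c1⟩
      · by_cases c2 : x = y0
        · exact Or.inr (Or.inl c2)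
        · exact Or.inr (Or.inr (hno x hx c1 c2))
    have h1 := Set.ncard_le_ncard hsub (Set.toFinite _)
    have h2 := Set.ncard_union_le {y | y ∈ Δ ∧ Commute b y} {y0, b * y0 * b⁻¹}
    have h3 : ({y0, b * y0 * b⁻¹} : Set G).ncard ≤ 2 := by
      refine (Set.ncard_insert_le _ _).trans ?_
      rw [Set.ncard_singleton]
    have f1 := fix_le h hE hcl hZ hf hbb hbV
    have h4 := hf.card
    omega
  obtain ⟨x2, hx2, hbx2, n1, n2⟩ := hex
  have hnm : ∀ x : G, ¬ Commute b x → x ∉ B ⊓ V := fun x hx hm => hx (hBc b hb x hm.1)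
  have hm := half (inf_le_right : B ⊓ V ≤ V) hcard2 (Subgroup.subset_closure hy0) (Subgroup.subset_closure hx2) (hnm _ hby0) (hnm _ hbx2)
  have hcm := hBc b hb _ hm.1
  have e : (b * y0 * b⁻¹) * (b * x2 * b⁻¹) = y0 * x2 := by
    calc (b * y0 * b⁻¹) * (b * x2 * b⁻¹) = b * (y0 * x2) * b⁻¹ := by group
      _ = y0 * x2 := by rw [hcm.eq, mul_inv_cancel_right]
  have hne' : b * y0 * b⁻¹ ≠ b * x2 * b⁻¹ := fun e => n1 (mul_left_cancel (mul_right_cancel e)).symm
  rcases pair_unique h hE hcl hZ hf hy0 hx2 (hN b hb y0 hy0) (hN b hb x2 hx2) (Ne.symm n1) hne' e.symm with h4 | h4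
  · exact hmv b hb y0 hby0 h4
  · exact n2 h4.symm

omit hf in
theorem thompson22 (T : Sylow 2 G) : Subgroup.closure {x : G | x ∈ D ∧ x ∈ (T : Subgroup G)} = thompsonSubgroupOf 2 (T : Subgroup G) := by
  haveI : Fact (Nat.Prime 2) := ⟨Nat.prime_two⟩
  have ht := h.lev.tri
  have hst : ∀ g : G, ∀ y ∈ D, g * y * g⁻¹ ∈ D := fun g y hy => conj_closure ht (by rw [hcl]; exact Subgroup.mem_top g) hy
  have hNm : (T : Subgroup G) ≤ Nm D := by
    intro g _
    refine ⟨hst g, fun y hy => ?_⟩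
    have := hst g⁻¹ y hy
    simpa using this
  obtain ⟨Δ, hf, hΔ⟩ := frame_of_pgroup h.lev (T : Subgroup G) T.2 hNm
  set V := Subgroup.closure Δ with hV
  have hVsq : ∀ z ∈ V, z * z = 1 := fun z hz => closure_sq (fun x hx => ht.sq x (hf.sub hx)) hf.comm hz
  have hVcomm : ∀ a ∈ V, ∀ b ∈ V, Commute a b := by
    have h1 : V ≤ Subgroup.centralizer (V : Set G) := by
      rw [hV, Subgroup.closure_le]
      intro a ha
      rw [SetLike.mem_coe, Subgroup.mem_centralizer_iff]
      intro b hb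
      have : Subgroup.closure Δ ≤ Subgroup.centralizer ({a} : Set G) := by
        rw [Subgroup.closure_le]
        intro z hz
        rw [SetLike.mem_coe, Subgroup.mem_centralizer_singleton_iff]
        exact hf.comm z hz a ha
      exact Subgroup.mem_centralizer_singleton_iff.1 (this hb)
    intro a ha b hb
    exact (Subgroup.mem_centralizer_iff.1 (h1 ha) b hb).symm
  -- V is normalized by T and contained in it
  have hTN : (T : Subgroup G) ≤ Subgroup.normalizer (V : Set G) := by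
    intro t htT
    have key : ∀ t ∈ (T : Subgroup G), ∀ z ∈ V, t * z * t⁻¹ ∈ V := by
      intro t htT z hz
      have h1 : V ≤ V.comap (MulAut.conj t).toMonoidHom := by
        conv_lhs => rw [hV]
        rw [Subgroup.closure_le]
        intro y hy
        exact Subgroup.subset_closure (hΔ t htT y hy)
      exact h1 hz
    rw [Subgroup.mem_normalizer_iff]
    intro z
    constructor
    · exact key t htT z
    · intro hz
      have := key t⁻¹ (Subgroup.inv_mem _ htT) _ hz
      have e : t⁻¹ * (t * z * t⁻¹) * t⁻¹⁻¹ = z := by group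
      rwa [e] at this
  have hVp : IsPGroup 2 V := by
    intro z
    exact ⟨1, Subtype.ext (by show (z : G) ^ 2 ^ 1 = 1; rw [pow_one, pow_two]; exact hVsq z z.2)⟩
  have hVT : V ≤ (T : Subgroup G) := by
    have h1 : IsPGroup 2 ((T : Subgroup G) ⊔ V : Subgroup G) := IsPGroup.to_sup_of_normal_right' T.2 hVp hTN
    have h2 := T.3 h1 le_sup_left
    rw [← h2]
    exact le_sup_right
  have hDT : {x : G | x ∈ D ∧ x ∈ (T : Subgroup G)} = Δ := by
    ext x
    constructor
    · rintro ⟨h1, h2⟩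
      apply Fr.max h.lev hf h1
      intro y hy
      exact comm_of_pgroup ht T.2 h1 (hf.sub hy) h2 (hVT (Subgroup.subset_closure hy))
    · intro hx
      exact ⟨hf.sub hx, hVT (Subgroup.subset_closure hx)⟩
  rw [hDT]
  -- work inside T
  set P := (T : Subgroup G) with hP
  set VP : Subgroup P := V.subgroupOf P with hVP
  have hn : VP.Normal := by
    constructor
    intro z hz g
    rw [hVP, Subgroup.mem_subgroupOf] at hz ⊢
    exact (Subgroup.mem_normalizer_iff.1 (hTN g.2) _).1 hz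
  have hea : IsElementaryAbelian 2 VP := by
    refine ⟨⟨⟨?_⟩⟩, ?_⟩
    · rintro ⟨a, ha⟩ ⟨b, hb⟩
      exact Subtype.ext (Subtype.ext (hVcomm _ ha _ hb))
    · intro a ha
      rw [pow_two]
      exact Subtype.ext (hVsq _ ha)
  have hcardVP : Nat.card VP = Nat.card V := Nat.card_congr (Subgroup.subgroupOfEquivOfLe hVT).toEquiv
  have hall : ∀ A ∈ maxElementaryAbelianSubgroups 2 P, A = VP := by
    intro A hA
    -- general properties of members of maximal order
    have prop : ∀ B ∈ maxElementaryAbelianSubgroups 2 P, (∀ b ∈ B.map P.subtype, ∀ c ∈ B.map P.subtype, Commute b c) ∧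
        (∀ b ∈ B.map P.subtype, b * b = 1) ∧ (∀ b ∈ B.map P.subtype, ∀ y ∈ Δ, b * y * b⁻¹ ∈ Δ) ∧ Nat.card V ≤ Nat.card (B.map P.subtype) := by
      intro B hB
      refine ⟨?_, ?_, ?_, ?_⟩
      · rintro _ ⟨b, hb, rfl⟩ _ ⟨c, hc, rfl⟩
        have h1 := hB.1.1.1.1 (⟨b, hb⟩ : B) ⟨c, hc⟩
        exact congrArg (fun x : B => ((x : P) : G)) h1
      · rintro _ ⟨b, hb, rfl⟩
        have h1 := hB.1.2 b hb
        rw [pow_two] at h1
        exact congrArg Subtype.val h1
      · rintro _ ⟨b, hb, rfl⟩ y hy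
        exact hΔ b b.2 y hy
      · rw [Subgroup.card_map_of_injective P.subtype_injective, ← hcardVP]
        exact hB.2 VP hea
    have hcomm : ⁅VP, A⁆ = ⊥ := by
      by_contra hne
      obtain ⟨r1, r2, r3⟩ := Cfsg.Agent.S0607.result VP hea A hA
      set A0 := ⁅VP, A⁆ ⊔ (A ⊓ Subgroup.centralizer ((⁅VP, A⁆ : Subgroup P) : Set P)) with hA0
      obtain ⟨p1, p2, p3, p4⟩ := prop A0 r1
      have hquad : ∀ b ∈ A0.map P.subtype, ∀ c ∈ A0.map P.subtype, ∀ x ∈ Δ, Commute c (x * (b * x * b⁻¹)) := by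
        rintro _ ⟨b, hb, rfl⟩ _ ⟨c, hc, rfl⟩ x hx
        have hxP : x ∈ P := hVT (Subgroup.subset_closure hx)
        have hxV : (⟨x, hxP⟩ : P) ∈ VP := Subgroup.subset_closure hx
        have h1 : ⁅(⟨x, hxP⟩ : P), b⁆ ∈ ⁅VP, A0⁆ := Subgroup.commutator_mem_commutator hxV hb
        have h2 : ⁅⁅(⟨x, hxP⟩ : P), b⁆, c⁆ ∈ ⁅⁅VP, A0⁆, A0⁆ := Subgroup.commutator_mem_commutator h1 hc
        rw [r2, Subgroup.mem_bot, commutatorElement_eq_one_iff_commute] at h2
        have h3 : Commute (x * b * x⁻¹ * (b : G)⁻¹) (c : G) := congrArg Subtype.val h2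
        have h4 : x⁻¹ = x := Tri.inv_eq ht (hf.sub hx)
        rw [h4] at h3
        have e : x * (b : G) * x * (b : G)⁻¹ = x * ((b : G) * x * (b : G)⁻¹) := by group
        rw [e] at h3
        exact h3.symm
      have hnq := no_quadratic h hE hcl hZ hf (A0.map P.subtype) p1 p2 p3 hquad p4
      apply r3 hne
      rw [Subgroup.commutator_eq_bot_iff_le_centralizer]
      intro z hz
      rw [Subgroup.mem_centralizer_iff]
      intro c hc
      have h5 : V ≤ Subgroup.centralizer ({(c : G)} : Set G) := by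
        rw [hV, Subgroup.closure_le]
        intro y hy
        rw [SetLike.mem_coe, Subgroup.mem_centralizer_singleton_iff]
        exact (hnq c ⟨c, hc, rfl⟩ y hy).symm
      exact Subtype.ext (Subgroup.mem_centralizer_singleton_iff.1 (h5 hz)).symm
    have hle : A ≤ VP := by
      intro a ha
      obtain ⟨p1, p2, p3, p4⟩ := prop A hA
      apply mem_of_comm h hE hcl hZ hf (p2 a ⟨a, ha, rfl⟩)
      intro y hy
      rw [Subgroup.commutator_eq_bot_iff_le_centralizer] at hcomm
      have h1 := Subgroup.mem_centralizer_iff.1 (hcomm (show (⟨y, hVT (Subgroup.subset_closure hy)⟩ : P) ∈ VP from Subgroup.subset_closure hy)) a ha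
      exact congrArg Subtype.val h1
    apply Subgroup.eq_of_le_of_card_ge hle
    exact hA.2 VP hea
  have hth : thompsonSubgroup 2 P = VP := by
    obtain ⟨A, hA⟩ := H13.Thompson.exists_mem_max (G := P) 2
    apply le_antisymm
    · apply sSup_le
      intro B hB
      exact (hall B hB).le
    · have := H13.Thompson.le_thompson hA
      rwa [hall A hA] at this
  rw [thompsonSubgroupOf, hth, hVP, Subgroup.map_subgroupOf_eq_of_le hVT]

end H92.Thomp22
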