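import Mathlib
import Cfsg.Prelude.Def_FischerSpaces
import Cfsg.Agent.Lib.H92.Inv3
import Cfsg.Agent.Lib.H92.Frame
import Cfsg.Agent.Lib.H92.Thomp22
import Cfsg.Agent.S0607

/-!
The elementary abelian subgroups of maximal order in a Sylow 2-subgroup of a level 2 group.
-/

set_option autoImplicit false
set_option linter.dupNamespace false
set_option linter.unusedSectionVars false
set_option linter.style.haveILetI false
set_option linter.unusedVariables false
open Cfsg
open scoped commutatorElement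

universe u

namespace H92.Thomp23
open H92.Tri H92.Pol H92.Lev H92.RelList H92.Geo H92.Frame H92.Inv2 H92.Inv3 H92.Inv H92.Thomp22

variable {G : Type u} [Group G] [Finite G] {D : Set G} (h : LG 2 D) (hE : D.ncard = 31671) (hcl : Subgroup.closure D = ⊤)
  (hZ : Subgroup.center G = ⊥) (hC : ∀ x ∈ D, (Tri.C D x).ncard = 3510) {Δ : Set G} (hf : Fr 2 D Δ)
include h hE hcl hZ hC hf

theorem mem_of_comm {b : G} (hb : b * b = 1) (hc : ∀ y ∈ Δ, Commute b y) : b ∈ Subgroup.closure Δ := by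
  obtain ⟨l, l1, l2, l3, l4, rfl⟩ := inv_two h hcl hZ hE hC hb
  apply Subgroup.list_prod_mem
  intro a ha
  apply Subgroup.subset_closure
  apply Fr.max h.lev hf (l3 a ha)
  intro y hy
  exact (comm_short h.lev.tri l l1 l3 l4 l2 (hf.sub hy) (hc y hy).symm a ha).symm

omit hE hcl hZ hC in
theorem cnt_two {t : G} (ht : t ∈ D) (htΔ : t ∉ Δ) : {y | y ∈ Δ ∧ Commute t y}.ncard ≤ 7 := by
  by_cases hne : {y | y ∈ Δ ∧ Commute t y}.Nonempty
  · obtain ⟨y, hy, hty⟩ := hne
    have hyt : t ≠ y := fun e => htΔ (e ▸ hy)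
    have h1 := cnt_one (h.lev.2.2.2 y (hf.sub hy)) (hf.C hy) (t := t) ⟨ht, hyt, hty.symm⟩ (fun h => htΔ h.1)
    rcases h1 with h1 | h1
    · have := cnt_succ hf ht htΔ hy hty h1
      omega
    · have := cnt_succ hf ht htΔ hy hty h1
      omega
  · rw [Set.not_nonempty_iff_eq_empty] at hne
    rw [hne]; simp

theorem fix_le {b : G} (hb : b * b = 1) (hbV : b ∉ Subgroup.closure Δ) : {y | y ∈ Δ ∧ Commute b y}.ncard ≤ 7 := by
  obtain ⟨l, l1, l2, l3, l4, rfl⟩ := inv_two h hcl hZ hE hC hb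
  have hex : ∃ a ∈ l, a ∉ Δ := by
    by_contra hno
    push Not at hno
    exact hbV (Subgroup.list_prod_mem _ fun a ha => Subgroup.subset_closure (hno a ha))
  obtain ⟨a, ha, haΔ⟩ := hex
  have hsub : {y | y ∈ Δ ∧ Commute l.prod y} ⊆ {y | y ∈ Δ ∧ Commute a y} := by
    rintro y ⟨hy, hc⟩
    exact ⟨hy, (comm_short h.lev.tri l l1 l3 l4 l2 (hf.sub hy) hc.symm a ha).symm⟩
  have h1 := Set.ncard_le_ncard hsub (Set.toFinite _)
  exact h1.trans (cnt_two h hf (l3 a ha) haΔ)

omit hE hcl hZ hC in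
theorem pair_unique {x y z w : G} (hx : x ∈ Δ) (hy : y ∈ Δ) (hz : z ∈ Δ) (hw : w ∈ Δ) (hxy : x ≠ y) (hzw : z ≠ w) (he : x * y = z * w) :
    z = x ∨ z = y := by
  have h1 := unique_short h.lev 2 (by norm_num) (by norm_num) [x, y] [z, w] (by simpa using hxy)
    (by intro a ha; simp at ha; rcases ha with rfl | rfl; exacts [hf.sub hx, hf.sub hy])
    (by
      intro a ha b hb; simp at ha hb
      rcases ha with rfl | rfl <;> rcases hb with rfl | rfl <;> apply hf.comm <;> assumption) rfl (by simpa using hzw)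
    (by intro a ha; simp at ha; rcases ha with rfl | rfl; exacts [hf.sub hz, hf.sub hw])
    (by
      intro a ha b hb; simp at ha hb
      rcases ha with rfl | rfl <;> rcases hb with rfl | rfl <;> apply hf.comm <;> assumption) rfl (by simpa using he)
  have := (h1 z).2 (by simp)
  simpa using this

/-- a quadratic elementary abelian subgroup of maximal order centralizes the frame -/
theorem no_quadratic (B : Subgroup G) (hBc : ∀ b ∈ B, ∀ c ∈ B, Commute b c) (hB2 : ∀ b ∈ B, b * b = 1) (hN : ∀ b ∈ B, ∀ y ∈ Δ, b * y * b⁻¹ ∈ Δ)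
    (hquad : ∀ b ∈ B, ∀ c ∈ B, ∀ x ∈ Δ, Commute c (x * (b * x * b⁻¹)))
    (hmax : Nat.card ↥(Subgroup.closure Δ) ≤ Nat.card B) : ∀ b ∈ B, ∀ y ∈ Δ, Commute b y := by
  classical
  set V := Subgroup.closure Δ with hV
  by_contra hno
  push Not at hno
  obtain ⟨b, hb, y0, hy0, hby0⟩ := hno
  have hbV : b ∉ V := by
    intro hm
    have : V ≤ Subgroup.centralizer ({y0} : Set G) := by
      rw [hV, Subgroup.closure_le]
      intro z hz
      rw [SetLike.mem_coe, Subgroup.mem_centralizer_singleton_iff]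
      exact hf.comm z hz y0 hy0
    exact hby0 (Subgroup.mem_centralizer_singleton_iff.1 (this hm))
  have hbb := hB2 b hb
  have hinv : ∀ b ∈ B, b⁻¹ = b := fun b hb => inv_eq_of_mul_eq_one_left (hB2 b hb)
  have hmv : ∀ b ∈ B, ∀ x : G, ¬ Commute b x → b * x * b⁻¹ ≠ x := by
    intro b hb x hx he
    exact hx (mul_inv_eq_iff_eq_mul.1 he)
  -- orbits have length at most two
  have horb : ∀ b ∈ B, ∀ c ∈ B, ∀ x ∈ Δ, ¬ Commute b x → ¬ Commute c x → Commute (b * c) x := by
    intro b hb c hc x hx h1 h2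
    have h3 := hquad b hb c hc x hx
    have e : (c * x * c⁻¹) * (c * (b * x * b⁻¹) * c⁻¹) = x * (b * x * b⁻¹) := by
      calc (c * x * c⁻¹) * (c * (b * x * b⁻¹) * c⁻¹) = c * (x * (b * x * b⁻¹)) * c⁻¹ := by group
        _ = x * (b * x * b⁻¹) := by rw [h3.eq, mul_inv_cancel_right]
    have hne : x ≠ b * x * b⁻¹ := fun e => hmv b hb x h1 e.symm
    have hne' : c * x * c⁻¹ ≠ c * (b * x * b⁻¹) * c⁻¹ := fun e => hne (mul_left_cancel (mul_right_cancel e))
    rcases pair_unique h hf hx (hN b hb x hx) (hN c hc x hx) (hN c hc _ (hN b hb x hx)) hne hne' e.symm with h4 | h4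
    · exact absurd h4 (hmv c hc x h2)
    · show b * c * x = x * (b * c)
      have h5 : c * x = (b * x * b⁻¹) * c := by rw [← h4]; group
      calc b * c * x = b * (c * x) := by group
        _ = b * ((b * x * b⁻¹) * c) := by rw [h5]
        _ = (b * b) * x * b⁻¹ * c := by group
        _ = x * (b * c) := by rw [hB2 b hb, one_mul, hinv b hb]; group
  have hone : ∀ c ∈ B, c ∈ B ⊓ V ∨ b * c ∈ B ⊓ V := by
    intro c hc
    by_contra hno
    push Not at hno
    obtain ⟨n1, n2⟩ := hno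
    have hcV : c ∉ V := fun hm => n1 ⟨hc, hm⟩
    have hbc : b * c ∈ B := B.mul_mem hb hc
    have hbcV : b * c ∉ V := fun hm => n2 ⟨hbc, hm⟩
    have f1 := fix_le h hE hcl hZ hC hf hbb hbV
    have f2 := fix_le h hE hcl hZ hC hf (hB2 c hc) hcV
    have f3 := fix_le h hE hcl hZ hC hf (hB2 _ hbc) hbcV
    have hsub : Δ ⊆ ({y | y ∈ Δ ∧ Commute b y} ∪ {y | y ∈ Δ ∧ Commute c y}) ∪ {y | y ∈ Δ ∧ Commute (b * c) y} := by
      intro x hx
      by_cases c1 : Commute b x
      · exact Or.inl (Or.inl ⟨hx, c1⟩)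
      · by_cases c2 : Commute c x
        · exact Or.inl (Or.inr ⟨hx, c2⟩)
        · exact Or.inr ⟨hx, horb b hb c hc x hx c1 c2⟩
    have h1 := Set.ncard_le_ncard hsub (Set.toFinite _)
    have h2 := Set.ncard_union_le ({y | y ∈ Δ ∧ Commute b y} ∪ {y | y ∈ Δ ∧ Commute c y}) {y | y ∈ Δ ∧ Commute (b * c) y}
    have h3 := Set.ncard_union_le {y | y ∈ Δ ∧ Commute b y} {y | y ∈ Δ ∧ Commute c y}
    have h4 := hf.card
    omega
  have hcard := card_le_two (inf_le_left : B ⊓ V ≤ B) hone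
  have hcard2 : Nat.card V ≤ 2 * Nat.card ↥(B ⊓ V) := hmax.trans hcard
  -- two members moved by b in different orbits
  have hex : ∃ x2 ∈ Δ, ¬ Commute b x2 ∧ x2 ≠ y0 ∧ x2 ≠ b * y0 * b⁻¹ := by
    by_contra hno
    push Not at hno
    have hsub : Δ ⊆ {y | y ∈ Δ ∧ Commute b y} ∪ {y0, b * y0 * b⁻¹} := by
      intro x hx
      by_cases c1 : Commute b x
      · exact Or.inl ⟨hx, c1⟩
      · by_cases c2 : x = y0
        · exact Or.inr (Or.inl c2)
        · exact Or.inr (Or.inr (hno x hx c1 c2))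
    have h1 := Set.ncard_le_ncard hsub (Set.toFinite _)
    have h2 := Set.ncard_union_le {y | y ∈ Δ ∧ Commute b y} {y0, b * y0 * b⁻¹}
    have h3 : ({y0, b * y0 * b⁻¹} : Set G).ncard ≤ 2 := by
      refine (Set.ncard_insert_le _ _).trans ?_
      rw [Set.ncard_singleton]
    have f1 := fix_le h hE hcl hZ hC hf hbb hbV
    have h4 := hf.card
    omega
  obtain ⟨x2, hx2, hbx2, n1, n2⟩ := hex
  have hnm : ∀ x : G, ¬ Commute b x → x ∉ B ⊓ V := fun x hx hm => hx (hBc b hb x hm.1)
  have hm := half (inf_le_right : B ⊓ V ≤ V) hcard2 (Subgroup.subset_closure hy0) (Subgroup.subset_closure hx2) (hnm _ hby0) (hnm _ hbx2)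
  have hcm := hBc b hb _ hm.1
  have e : (b * y0 * b⁻¹) * (b * x2 * b⁻¹) = y0 * x2 := by
    calc (b * y0 * b⁻¹) * (b * x2 * b⁻¹) = b * (y0 * x2) * b⁻¹ := by group
      _ = y0 * x2 := by rw [hcm.eq, mul_inv_cancel_right]
  have hne' : b * y0 * b⁻¹ ≠ b * x2 * b⁻¹ := fun e => n1 (mul_left_cancel (mul_right_cancel e)).symm
  rcases pair_unique h hf hy0 hx2 (hN b hb y0 hy0) (hN b hb x2 hx2) (Ne.symm n1) hne' e.symm with h4 | h4
  · exact hmv b hb y0 hby0 h4
  · exact n2 h4.symm

omit hcl hZ hC hE [Finite G] in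
/-- the subgroup generated by the frame -/
theorem V_comm : ∀ a ∈ Subgroup.closure Δ, ∀ b ∈ Subgroup.closure Δ, Commute a b := by
  have h1 : Subgroup.closure Δ ≤ Subgroup.centralizer (Subgroup.closure Δ : Set G) := by
    apply (Subgroup.closure_le _).2
    intro a ha
    rw [SetLike.mem_coe, Subgroup.mem_centralizer_iff]
    intro b hb
    have : Subgroup.closure Δ ≤ Subgroup.centralizer ({a} : Set G) := by
      rw [Subgroup.closure_le]
      intro z hz
      rw [SetLike.mem_coe, Subgroup.mem_centralizer_singleton_iff]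
      exact hf.comm z hz a ha
    exact Subgroup.mem_centralizer_singleton_iff.1 (this hb)
  intro a ha b hb
  exact (Subgroup.mem_centralizer_iff.1 (h1 ha) b hb).symm

omit hf in
/-- all elementary abelian subgroups of a Sylow 2-subgroup `T` have order at most that of `⟨T ∩ D⟩`, with equality only for it. -/
theorem max_ea (T : Sylow 2 G) : ∃ Δ, Fr 2 D Δ ∧ Subgroup.closure Δ ≤ (T : Subgroup G) ∧
    ((Subgroup.closure Δ).subgroupOf (T : Subgroup G)).Normal ∧ IsElementaryAbelian 2 (Subgroup.closure Δ) ∧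
    ∀ A ∈ maxElementaryAbelianSubgroups 2 (T : Subgroup G), A = (Subgroup.closure Δ).subgroupOf (T : Subgroup G) := by
  haveI : Fact (Nat.Prime 2) := ⟨Nat.prime_two⟩
  have ht := h.lev.tri
  have hst : ∀ g : G, ∀ y ∈ D, g * y * g⁻¹ ∈ D := fun g y hy => conj_closure ht (by rw [hcl]; exact Subgroup.mem_top g) hy
  have hNm : (T : Subgroup G) ≤ Nm D := by
    intro g _
    refine ⟨hst g, fun y hy => ?_⟩
    have := hst g⁻¹ y hy
    simpa using this
  obtain ⟨Δ, hf, hΔ⟩ := frame_of_pgroup h.lev (T : Subgroup G) T.2 hNm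
  refine ⟨Δ, hf, ?_⟩
  set V := Subgroup.closure Δ with hV
  have hVsq : ∀ z ∈ V, z * z = 1 := fun z hz => closure_sq (fun x hx => ht.sq x (hf.sub hx)) hf.comm hz
  have hVcomm := V_comm h hf
  have hTN : (T : Subgroup G) ≤ Subgroup.normalizer (V : Set G) := by
    intro t htT
    have key : ∀ t ∈ (T : Subgroup G), ∀ z ∈ V, t * z * t⁻¹ ∈ V := by
      intro t htT z hz
      have h1 : V ≤ V.comap (MulAut.conj t).toMonoidHom := by
        conv_lhs => rw [hV]
        rw [Subgroup.closure_le]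
        intro y hy
        exact Subgroup.subset_closure (hΔ t htT y hy)
      exact h1 hz
    rw [Subgroup.mem_normalizer_iff]
    intro z
    constructor
    · exact key t htT z
    · intro hz
      have := key t⁻¹ (Subgroup.inv_mem _ htT) _ hz
      have e : t⁻¹ * (t * z * t⁻¹) * t⁻¹⁻¹ = z := by group
      rwa [e] at this
  have hVp : IsPGroup 2 V := by
    intro z
    exact ⟨1, Subtype.ext (by show (z : G) ^ 2 ^ 1 = 1; rw [pow_one, pow_two]; exact hVsq z z.2)⟩
  have hVT : V ≤ (T : Subgroup G) := by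
    have h1 : IsPGroup 2 ((T : Subgroup G) ⊔ V : Subgroup G) := IsPGroup.to_sup_of_normal_right' T.2 hVp hTN
    have h2 := T.3 h1 le_sup_left
    rw [← h2]
    exact le_sup_right
  refine ⟨hVT, ?_⟩
  -- work inside T
  set P := (T : Subgroup G) with hP
  set VP : Subgroup P := V.subgroupOf P with hVP
  have hn : VP.Normal := by
    constructor
    intro z hz g
    rw [hVP, Subgroup.mem_subgroupOf] at hz ⊢
    exact (Subgroup.mem_normalizer_iff.1 (hTN g.2) _).1 hz
  refine ⟨hn, ?_, ?_⟩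
  · refine ⟨⟨⟨?_⟩⟩, ?_⟩
    · rintro ⟨a, ha⟩ ⟨b, hb⟩
      exact Subtype.ext (hVcomm _ ha _ hb)
    · intro a ha
      rw [pow_two]
      exact hVsq _ ha
  have hea : IsElementaryAbelian 2 VP := by
    refine ⟨⟨⟨?_⟩⟩, ?_⟩
    · rintro ⟨a, ha⟩ ⟨b, hb⟩
      exact Subtype.ext (Subtype.ext (hVcomm _ ha _ hb))
    · intro a ha
      rw [pow_two]
      exact Subtype.ext (hVsq _ ha)
  have hcardVP : Nat.card VP = Nat.card V := Nat.card_congr (Subgroup.subgroupOfEquivOfLe hVT).toEquiv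
  intro A hA
  -- general properties of members of maximal order
  have prop : ∀ B ∈ maxElementaryAbelianSubgroups 2 P, (∀ b ∈ B.map P.subtype, ∀ c ∈ B.map P.subtype, Commute b c) ∧
      (∀ b ∈ B.map P.subtype, b * b = 1) ∧ (∀ b ∈ B.map P.subtype, ∀ y ∈ Δ, b * y * b⁻¹ ∈ Δ) ∧ Nat.card V ≤ Nat.card (B.map P.subtype) := by
    intro B hB
    refine ⟨?_, ?_, ?_, ?_⟩
    · rintro _ ⟨b, hb, rfl⟩ _ ⟨c, hc, rfl⟩
      have h1 := hB.1.1.1.1 (⟨b, hb⟩ : B) ⟨c, hc⟩
      exact congrArg (fun x : B => ((x : P) : G)) h1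
    · rintro _ ⟨b, hb, rfl⟩
      have h1 := hB.1.2 b hb
      rw [pow_two] at h1
      exact congrArg Subtype.val h1
    · rintro _ ⟨b, hb, rfl⟩ y hy
      exact hΔ b b.2 y hy
    · rw [Subgroup.card_map_of_injective P.subtype_injective, ← hcardVP]
      exact hB.2 VP hea
  have hcomm : ⁅VP, A⁆ = ⊥ := by
    by_contra hne
    obtain ⟨r1, r2, r3⟩ := Cfsg.Agent.S0607.result VP hea A hA
    set A0 := ⁅VP, A⁆ ⊔ (A ⊓ Subgroup.centralizer ((⁅VP, A⁆ : Subgroup P) : Set P)) with hA0
    obtain ⟨p1, p2, p3, p4⟩ := prop A0 r1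
    have hquad : ∀ b ∈ A0.map P.subtype, ∀ c ∈ A0.map P.subtype, ∀ x ∈ Δ, Commute c (x * (b * x * b⁻¹)) := by
      rintro _ ⟨b, hb, rfl⟩ _ ⟨c, hc, rfl⟩ x hx
      have hxP : x ∈ P := hVT (Subgroup.subset_closure hx)
      have hxV : (⟨x, hxP⟩ : P) ∈ VP := Subgroup.subset_closure hx
      have h1 : ⁅(⟨x, hxP⟩ : P), b⁆ ∈ ⁅VP, A0⁆ := Subgroup.commutator_mem_commutator hxV hb
      have h2 : ⁅⁅(⟨x, hxP⟩ : P), b⁆, c⁆ ∈ ⁅⁅VP, A0⁆, A0⁆ := Subgroup.commutator_mem_commutator h1 hc
      rw [r2, Subgroup.mem_bot, commutatorElement_eq_one_iff_commute] at h2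
      have h3 : Commute (x * b * x⁻¹ * (b : G)⁻¹) (c : G) := congrArg Subtype.val h2
      have h4 : x⁻¹ = x := Tri.inv_eq ht (hf.sub hx)
      rw [h4] at h3
      have e : x * (b : G) * x * (b : G)⁻¹ = x * ((b : G) * x * (b : G)⁻¹) := by group
      rw [e] at h3
      exact h3.symm
    have hnq := no_quadratic h hE hcl hZ hC hf (A0.map P.subtype) p1 p2 p3 hquad p4
    apply r3 hne
    rw [Subgroup.commutator_eq_bot_iff_le_centralizer]
    intro z hz
    rw [Subgroup.mem_centralizer_iff]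
    intro c hc
    have h5 : V ≤ Subgroup.centralizer ({(c : G)} : Set G) := by
      rw [hV, Subgroup.closure_le]
      intro y hy
      rw [SetLike.mem_coe, Subgroup.mem_centralizer_singleton_iff]
      exact (hnq c ⟨c, hc, rfl⟩ y hy).symm
    exact Subtype.ext (Subgroup.mem_centralizer_singleton_iff.1 (h5 hz)).symm
  have hle : A ≤ VP := by
    intro a ha
    obtain ⟨p1, p2, p3, p4⟩ := prop A hA
    apply mem_of_comm h hE hcl hZ hC hf (p2 a ⟨a, ha, rfl⟩)
    intro y hy
    rw [Subgroup.commutator_eq_bot_iff_le_centralizer] at hcomm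
    have h1 := Subgroup.mem_centralizer_iff.1 (hcomm (show (⟨y, hVT (Subgroup.subset_closure hy)⟩ : P) ∈ VP from Subgroup.subset_closure hy)) a ha
    exact congrArg Subtype.val h1
  apply Subgroup.eq_of_le_of_card_ge hle
  exact hA.2 VP hea

omit hE hC in
/-- every element of `⟨Δ⟩` is a product of at most three members of `Δ` -/
theorem mem_V {x : G} (hx : x ∈ Subgroup.closure Δ) : ∃ l : List G, l.Nodup ∧ (∀ a ∈ l, a ∈ Δ) ∧ l.length ≤ 3 ∧ l.prod = x := by
  have ht := h.lev.tri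
  have h1 : ∃ l : List G, (∀ a ∈ l, a ∈ Δ) ∧ l.prod = x := by
    induction hx using Subgroup.closure_induction with
    | mem y hy => exact ⟨[y], by simpa using hy, by simp⟩
    | one => exact ⟨[], by simp, rfl⟩
    | mul y z _ _ hy hz =>
      obtain ⟨l, hl, rfl⟩ := hy
      obtain ⟨l', hl', rfl⟩ := hz
      refine ⟨l ++ l', ?_, by rw [List.prod_append]⟩
      intro a ha
      rcases List.mem_append.1 ha with h2 | h2
      exacts [hl a h2, hl' a h2]
    | inv y _ hy =>
      obtain ⟨l, hl, rfl⟩ := hy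
      refine ⟨l.reverse, fun a ha => hl a (List.mem_reverse.1 ha), ?_⟩
      rw [List.prod_inv_reverse]
      congr 2
      conv_lhs => rw [← List.map_id l]
      apply List.map_congr_left
      intro a ha
      exact (Tri.inv_eq ht (hf.sub (hl a ha))).symm
  obtain ⟨l, hl, rfl⟩ := h1
  have hcen : ∀ ζ : G, (∀ y ∈ D, Commute ζ y) → ζ = 1 := by
    intro ζ hζ
    have h2 : Subgroup.closure D ≤ Subgroup.centralizer ({ζ} : Set G) := by
      rw [Subgroup.closure_le]
      intro z hz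
      rw [SetLike.mem_coe, Subgroup.mem_centralizer_singleton_iff]
      exact (hζ z hz).symm.eq
    rw [hcl] at h2
    have h3 : ζ ∈ Subgroup.center G := by
      rw [Subgroup.mem_center_iff]
      intro g
      exact Subgroup.mem_centralizer_singleton_iff.1 (h2 (Subgroup.mem_top g))
    rw [hZ, Subgroup.mem_bot] at h3
    exact h3
  obtain ⟨l', a1, a2, a3, a4, a5, a6, a7⟩ := reduce h (le_refl 2) hcen l (fun x hx => hf.sub (hl x hx))
    (fun x hx y hy => hf.comm x (hl x hx) y (hl y hy))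
  refine ⟨l', a1, fun a ha => ?_, a4, a5⟩
  apply Fr.max h.lev hf (a2 a ha)
  intro y hy
  exact (a7 y (hf.sub hy) (fun b hb => hf.comm y hy b (hl b hb)) a ha).symm

omit hE hC hZ hcl in
theorem card_inj {S S' : Finset G} (hS : ∀ a ∈ S, a ∈ Δ) (hS' : ∀ a ∈ S', a ∈ Δ) (hc : S.card ≤ 3) (hc' : S'.card ≤ 3)
    (he : S.toList.prod = S'.toList.prod) : S = S' := by
  classical
  have ht := h.lev.tri
  have hm : ∀ x ∈ S.toList ++ S'.toList, x ∈ Δ := by
    intro x hx
    rw [List.mem_append, Finset.mem_toList, Finset.mem_toList] at hx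
    rcases hx with hx | hx
    · exact hS x hx
    · exact hS' x hx
  obtain ⟨r, r1, r2, r3, r4⟩ := symm_rel S.toList S'.toList S.nodup_toList S'.nodup_toList (fun x hx => ht.sq x (hf.sub (hm x hx)))
    (fun x hx y hy => hf.comm x (hm x hx) y (hm y hy)) he
  have hr : ∀ x ∈ r, x ∈ Δ := by
    intro x hx
    apply hm
    rw [List.mem_append]
    rcases (r2 x).1 hx with h1 | h1
    · exact Or.inl h1.1
    · exact Or.inr h1.1
  have hlen : r.length = 0 := by
    by_contra h0
    refine prod_ne_one h.lev r r1 (fun x hx => hf.sub (hr x hx)) (fun x hx y hy => hf.comm x (hr x hx) y (hr y hy)) (by omega) ?_ r3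
    rw [Finset.length_toList, Finset.length_toList] at r4
    omega
  have hnil := List.length_eq_zero_iff.1 hlen
  ext x
  have h1 := r2 x
  rw [hnil, Finset.mem_toList, Finset.mem_toList] at h1
  simp only [List.not_mem_nil, false_iff, not_or, not_and, not_not] at h1
  exact ⟨h1.1, h1.2⟩

omit hE hC in
theorem card_V : Nat.card ↥(Subgroup.closure Δ) = 2 ^ 11 := by
  classical
  let F : Finset G := (Set.toFinite Δ).toFinset
  have hF : ∀ x, x ∈ F ↔ x ∈ Δ := fun x => Set.Finite.mem_toFinset _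
  have hFc : F.card = 23 := by
    have := hf.card
    rw [← Set.ncard_eq_toFinset_card Δ (Set.toFinite Δ)]
    exact this
  let P : Finset (Finset G) := (Finset.range 4).biUnion (fun k => F.powersetCard k)
  have hP : ∀ S, S ∈ P ↔ S ⊆ F ∧ S.card ≤ 3 := by
    intro S
    simp only [P, Finset.mem_biUnion, Finset.mem_range, Finset.mem_powersetCard]
    constructor
    · rintro ⟨k, hk, h1, h2⟩; exact ⟨h1, by omega⟩
    · rintro ⟨h1, h2⟩; exact ⟨S.card, by omega, h1, rfl⟩
  have hPc : P.card = 2 ^ 11 := by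
    rw [Finset.card_biUnion]
    · simp only [Finset.card_powersetCard, hFc]
      decide
    · intro i _ j _ hij
      rw [Function.onFun, Finset.disjoint_left]
      intro S h1 h2
      rw [Finset.mem_powersetCard] at h1 h2
      exact hij (h1.2.symm.trans h2.2)
  have himg : ((P.image fun S => S.toList.prod : Finset G) : Set G) = (Subgroup.closure Δ : Set G) := by
    ext x
    rw [Finset.coe_image]
    constructor
    · rintro ⟨S, hS, rfl⟩
      have hS' := (hP S).1 hS
      apply Subgroup.list_prod_mem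
      intro a ha
      exact Subgroup.subset_closure ((hF a).1 (hS'.1 (Finset.mem_toList.1 ha)))
    · intro hx
      obtain ⟨l, l1, l2, l3, rfl⟩ := mem_V h hcl hZ hf hx
      refine ⟨l.toFinset, ?_, ?_⟩
      · show l.toFinset ∈ P
        rw [hP]
        refine ⟨fun a ha => (hF a).2 (l2 a (List.mem_toFinset.1 ha)), ?_⟩
        exact (List.toFinset_card_le l).trans l3
      · apply prod_perm
        · have := List.toFinset_toList l1
          exact this
        · intro x hx y hy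
          rw [Finset.mem_toList, List.mem_toFinset] at hx hy
          exact hf.comm x (l2 x hx) y (l2 y hy)
  have h1 : (Subgroup.closure Δ : Set G).ncard = 2 ^ 11 := by
    rw [← himg, Set.ncard_coe_finset, Finset.card_image_of_injOn, hPc]
    intro S hS S' hS' he
    have a1 := (hP S).1 hS
    have a2 := (hP S').1 hS'
    exact card_inj h hf (fun a ha => (hF a).1 (a1.1 ha)) (fun a ha => (hF a).1 (a2.1 ha)) a1.2 a2.2 he
  rw [← h1]
  exact Nat.card_coe_set_eq _

omit hf in
theorem main (T : Sylow 2 G) :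
    (∀ A : Subgroup G, A ≤ T → IsElementaryAbelian 2 A → Nat.card A ≤ 2 ^ 11) ∧
    ∃! A : Subgroup G, A ≤ T ∧ (A.subgroupOf T).Normal ∧ IsElementaryAbelian 2 A ∧ Nat.card A = 2 ^ 11 := by
  obtain ⟨Δ, hf, hVT, hn, hea, hmax⟩ := max_ea h hE hcl hZ hC T
  have hcV := card_V h hcl hZ hf
  obtain ⟨A0, hA0⟩ := H13.Thompson.exists_mem_max (G := (T : Subgroup G)) 2
  have hA0V := hmax A0 hA0
  rw [hA0V] at hA0
  have hcVP : Nat.card ↥((Subgroup.closure Δ).subgroupOf (T : Subgroup G)) = 2 ^ 11 := by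
    rw [Nat.card_congr (Subgroup.subgroupOfEquivOfLe hVT).toEquiv, hcV]
  have hle : ∀ A : Subgroup G, A ≤ T → IsElementaryAbelian 2 A → IsElementaryAbelian 2 (A.subgroupOf (T : Subgroup G)) := by
    intro A hAT hA
    refine ⟨⟨⟨?_⟩⟩, ?_⟩
    · rintro ⟨a, ha⟩ ⟨b, hb⟩
      have h1 := hA.1.1.1 (⟨a, ha⟩ : A) ⟨b, hb⟩
      exact Subtype.ext (Subtype.ext (congrArg (fun z : A => (z : G)) h1))
    · intro a ha
      have h1 := hA.2 (a : G) ha
      exact Subtype.ext h1
  refine ⟨?_, Subgroup.closure Δ, ⟨hVT, hn, hea, hcV⟩, ?_⟩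
  · intro A hAT hA
    have h1 := hA0.2 _ (hle A hAT hA)
    rw [hcVP, Nat.card_congr (Subgroup.subgroupOfEquivOfLe hAT).toEquiv] at h1
    exact h1
  · rintro A ⟨hAT, hAn, hA, hAc⟩
    have h1 : A.subgroupOf (T : Subgroup G) ∈ maxElementaryAbelianSubgroups 2 (T : Subgroup G) := by
      refine ⟨hle A hAT hA, fun B hB => ?_⟩
      have h2 := hA0.2 B hB
      rw [hcVP] at h2
      rw [Nat.card_congr (Subgroup.subgroupOfEquivOfLe hAT).toEquiv, hAc]
      exact h2
    have h2 := hmax _ h1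
    have h3 : (A.subgroupOf (T : Subgroup G)).map (T : Subgroup G).subtype =
        ((Subgroup.closure Δ).subgroupOf (T : Subgroup G)).map (T : Subgroup G).subtype := by rw [h2]
    rw [Subgroup.map_subgroupOf_eq_of_le hAT, Subgroup.map_subgroupOf_eq_of_le hVT] at h3
    exact h3

end H92.Thomp23
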